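import Cfsg.Agent.Lib.AbelianPComplement.Count
import Cfsg.Agent.Lib.Qd.Construct
import Cfsg.Agent.Lib.PCore.HallHigman
import Cfsg.Agent.Lib.ZJControl.Basic
import Cfsg.Agent.Lib.Replacement.Constrained
import Cfsg.Agent.S0664

/-!
# A minimal counterexample: `O_{p'}(M)` contains an involution

A soluble group with abelian `p'`-subgroups is `Qd(p)`-free for `p ≥ 5`; were `O_{p'}(M)` of odd
order, the normaliser of `Z(J(P))` would contain a four-group of `M`, and so lie in `M`, against
`N(P) ⊄ M`.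
-/

set_option autoImplicit false

namespace Cfsg.Agent.AbelianPComplement

open Subgroup
open Cfsg (IsStronglyEmbedded pCore pPrimeCore)
open scoped MatrixGroups

universe u

variable {G : Type u} [Group G] [Finite G] {p : ℕ} [hp : Fact p.Prime]

omit [Finite G] in
theorem exists_noncommuting_pPrime (h5 : 5 ≤ p) :
    ∃ D w : ↥(Cfsg.qd p),
      (Nat.card ↥(zpowers D ⊔ zpowers w)).Coprime p ∧ D * w ≠ w * D := by
  have h2 : (2 : ZMod p) ≠ 0 := by
    intro h
    have : ((2 : ℕ) : ZMod p) = 0 := by simpa using h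
    rw [ZMod.natCast_eq_zero_iff] at this
    have := Nat.le_of_dvd two_pos this
    omega
  let d : SL(2, ZMod p) := ⟨!![2, 0; 0, 2⁻¹], by simp [Matrix.det_fin_two_of, h2]⟩
  let s : SL(2, ZMod p) := ⟨!![0, 1; -1, 0], by simp [Matrix.det_fin_two_of]⟩
  have hdpow : ∀ k : ℕ, ((d ^ k : SL(2, ZMod p)) : Matrix (Fin 2) (Fin 2) (ZMod p)) =
      !![2 ^ k, 0; 0, (2⁻¹) ^ k] := by
    intro k
    induction k with
    | zero => simp [Matrix.one_fin_two]
    | succ k ih =>
      rw [pow_succ, Matrix.SpecialLinearGroup.coe_mul, ih]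
      ext i j
      fin_cases i <;> fin_cases j <;> simp [d, Matrix.mul_apply, pow_succ]
  have hdp : d ^ (p - 1) = 1 := by
    refine Subtype.ext ?_
    rw [hdpow, inv_pow, ZMod.pow_card_sub_one_eq_one h2, inv_one, Matrix.SpecialLinearGroup.coe_one,
      Matrix.one_fin_two]
  have hs4 : s ^ 4 = 1 := by
    refine Subtype.ext ?_
    have : s ^ 4 = (s * s) * (s * s) := by simp [pow_succ, mul_assoc]
    rw [this, Matrix.SpecialLinearGroup.coe_mul, Matrix.SpecialLinearGroup.coe_mul,
      Matrix.SpecialLinearGroup.coe_one]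
    ext i j
    fin_cases i <;> fin_cases j <;> simp [s, Matrix.mul_apply]
  have hsds : s * d = d⁻¹ * s := by
    refine Subtype.ext ?_
    rw [Matrix.SpecialLinearGroup.coe_mul, Matrix.SpecialLinearGroup.coe_mul,
      Matrix.SpecialLinearGroup.coe_inv]
    ext i j
    fin_cases i <;> fin_cases j <;> simp [d, s, Matrix.adjugate_fin_two]
  let e : SL(2, ZMod p) →* ↥(Cfsg.qd p) := MonoidHom.mk'
    (fun M => ⟨Qd.qdMat 0 M, Qd.qdMat_mem 0 M⟩) fun M N => Subtype.ext (by
      show Qd.qdMat 0 (M * N) = Qd.qdMat 0 M * Qd.qdMat 0 N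
      rw [Qd.qdMat_mul, Matrix.mulVec_zero, add_zero])
  have he : Function.Injective e := by
    intro M N hMN
    have h1 : Qd.qdMat 0 M = Qd.qdMat 0 N := congrArg Subtype.val hMN
    have h3 := congrArg (fun A : Matrix.SpecialLinearGroup (Fin 3) (ZMod p) =>
      (A : Matrix (Fin 3) (Fin 3) (ZMod p))) h1
    simp only [Qd.qdMat_coe] at h3
    refine Subtype.ext ?_
    ext i j
    fin_cases i <;> fin_cases j
    · simpa using congrFun (congrFun h3 0) 0
    · simpa using congrFun (congrFun h3 0) 1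
    · simpa using congrFun (congrFun h3 1) 0
    · simpa using congrFun (congrFun h3 1) 1
  refine ⟨e d, e s, ?_, fun hc => ?_⟩
  · have hn : zpowers s ≤ normalizer (zpowers d : Set (SL(2, ZMod p))) := by
      rw [zpowers_le, mem_normalizer_iff_map_conj_eq, MonoidHom.map_zpowers]
      show zpowers (s * d * s⁻¹) = _
      rw [hsds, mul_inv_cancel_right, zpowers_inv]
    rw [← MonoidHom.map_zpowers, ← MonoidHom.map_zpowers, ← Subgroup.map_sup, sup_comm,
      Subgroup.card_map_of_injective he]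
    refine coprime_card_sup hn ?_ ?_
    · refine coprime_card_zpowers (Nat.Coprime.coprime_dvd_left (orderOf_dvd_of_pow_eq_one hs4) ?_)
      rw [Nat.coprime_comm, hp.out.coprime_iff_not_dvd]
      intro h
      have := Nat.le_of_dvd (by norm_num) h
      omega
    · refine coprime_card_zpowers (Nat.Coprime.coprime_dvd_left (orderOf_dvd_of_pow_eq_one hdp) ?_)
      rw [Nat.coprime_comm, hp.out.coprime_iff_not_dvd]
      intro h
      have := Nat.le_of_dvd (by omega) h
      omega
  · rw [← map_mul, ← map_mul] at hc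
    have h1 := congrArg (fun A : SL(2, ZMod p) => (A : Matrix (Fin 2) (Fin 2) (ZMod p)) 0 1) (he hc)
    simp only [Matrix.SpecialLinearGroup.coe_mul] at h1
    simp [d, s, Matrix.mul_apply] at h1
    have h4 : ((3 : ℕ) : ZMod p) = 0 := by
      have h6 : (2 : ZMod p) * 2 = 1 := by
        calc (2 : ZMod p) * 2 = 2 * (2 : ZMod p)⁻¹ := by rw [← h1]
          _ = 1 := mul_inv_cancel₀ h2
      push_cast
      linear_combination h6
    rw [ZMod.natCast_eq_zero_iff] at h4
    have := Nat.le_of_dvd (by norm_num) h4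
    omega

/-- A soluble group with abelian `p'`-subgroups does not involve `Qd(p)`, `p ≥ 5`. -/
theorem Hyp.not_involves_qd [Group.IsSolvable G] (h : Hyp p G) (h5 : 5 ≤ p) :
    ¬ Cfsg.Involves ↥(Cfsg.qd p) G := by
  intro hinv
  obtain ⟨D, w, hcop, hne⟩ := exists_noncommuting_pPrime (p := p) h5
  obtain ⟨K, φ, hφ⟩ := Qd.exists_surjective_of_involves hinv
  set H₀ := zpowers D ⊔ zpowers w
  have hres : Function.Surjective (φ.subgroupComap H₀) := fun x => by
    obtain ⟨k, hk⟩ := hφ x
    exact ⟨⟨k, show φ k ∈ H₀ by rw [hk]; exact x.2⟩, Subtype.ext hk⟩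
  obtain ⟨A, hA, htop⟩ := exists_coprime_map_eq_top (φ.subgroupComap H₀) hres hcop
  have hh := ((h.of_subgroup K).of_subgroup (H₀.comap φ))
  obtain ⟨a, ha, had⟩ : (⟨D, mem_sup_left (mem_zpowers D)⟩ : H₀) ∈ A.map (φ.subgroupComap H₀) :=
    htop ▸ mem_top _
  obtain ⟨b, hb, hbw⟩ : (⟨w, mem_sup_right (mem_zpowers w)⟩ : H₀) ∈ A.map (φ.subgroupComap H₀) :=
    htop ▸ mem_top _
  refine hne ?_
  have h1 := congrArg (φ.subgroupComap H₀) (hh.comm hA ha hb)
  rw [map_mul, map_mul, had, hbw] at h1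
  exact congrArg Subtype.val h1

/-- `O_{p'}(M)` contains an involution. -/
theorem MinCtx.exists_involution_core (c : MinCtx p G) {M : Subgroup G} (hM : IsStronglyEmbedded M)
    (T : Sylow 2 G) (hNT : normalizer ((T : Subgroup G) : Set G) ≤ M) :
    ∃ x ∈ pPrimeCore p ↥M, orderOf x = 2 := by
  haveI : Fact (Nat.Prime 2) := ⟨Nat.prime_two⟩
  by_contra hno
  haveI := c.solvable M hM.1
  set K := pPrimeCore p ↥M with hK
  have hKodd : ¬ 2 ∣ Nat.card K := fun h => by
    obtain ⟨x, hx⟩ := exists_prime_orderOf_dvd_card' (G := K) 2 h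
    exact hno ⟨x, x.2, (Subgroup.orderOf_coe x).trans hx⟩
  obtain ⟨P, hPM, hPp, hPne, hmax, y, hy, hyM, -⟩ := c.exists_normalizing_not_mem hM T hNT
  obtain ⟨P₀, hP₀⟩ := (hPp.comap_of_injective M.subtype M.subtype_injective).exists_le_sylow
  have hPeq : (P₀ : Subgroup M).map M.subtype = P :=
    hmax _ (fun x hx => ⟨⟨x, hPM hx⟩, hP₀ hx, rfl⟩) (map_subtype_le _) (P₀.isPGroup'.map _)
  have hfree : ¬ Cfsg.Involves ↥(Cfsg.qd p) (↥M ⧸ K) := fun h =>
    (c.hyp.of_subgroup M).not_involves_qd c.five (Qd.involves_of_involves_quotient K h)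
  have hc := PCore.centralizer_pCore_le_of_isSolvable
    (PCore.pPrimeCore_quotient_self_eq_bot (p := p) (G := ↥M))
  have hn := S0664.result c.ne_two hfree hc
    (P₀.mapSurjective (QuotientGroup.mk'_surjective K))
  rw [Replacement.map_sylow_quotient, Replacement.centerThompsonAOf_map_injOn _
    (Replacement.injOn_mk_pPrimeCore P₀.isPGroup')] at hn
  have hF := ZJControl.isZJLike_A.{u} c.ne_two
  have htop := Replacement.sup_normalizer_of_normal_map P₀ (hF.le _ _) hn
  set Z := Cfsg.centerThompsonAOf (P₀ : Subgroup M) with hZ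
  set N := normalizer (Z : Set M)
  have hodd : ¬ 2 ∣ N.index := by
    have h1 := PCore.card_sup_dvd K N
    rw [htop, card_top, ← N.card_mul_index, mul_comm (Nat.card K)] at h1
    exact fun h => hKodd (h.trans (Nat.dvd_of_mul_dvd_mul_left Nat.card_pos h1))
  have hMi : ¬ 2 ∣ M.index := fun h =>
    T.not_dvd_index (h.trans (index_dvd_of_le ((le_normalizer).trans hNT)))
  set X := N.map M.subtype
  have hX : ¬ 2 ∣ X.index := by
    rw [index_map_subtype]
    exact Nat.prime_two.not_dvd_mul hodd hMi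
  obtain ⟨S⟩ : Nonempty (Sylow 2 X) := inferInstance
  have hS : ¬ 2 ∣ ((S : Subgroup X).map X.subtype).index := by
    rw [index_map_subtype]
    exact Nat.prime_two.not_dvd_mul S.not_dvd_index hX
  let T₂ : Sylow 2 G := (S.isPGroup'.map X.subtype).toSylow hS
  have hT₂ : (T₂ : Subgroup G) ≤ X := by
    show (S : Subgroup X).map X.subtype ≤ X
    exact map_subtype_le _
  have hZP : Z.map M.subtype = Cfsg.centerThompsonAOf P := by
    rw [← hPeq]; exact (hF.map_subtype (P₀ : Subgroup M)).symm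
  have hXN : X ≤ normalizer (Cfsg.centerThompsonAOf P : Set G) := by
    rw [← hZP]; exact le_normalizer_map _
  have hle := c.le_of_four hM (X := normalizer (Cfsg.centerThompsonAOf P : Set G))
    (c.normalizer_ne_top (hF.ne_bot G P hPp hPne)
      (c.ne_top_of_isPGroup (hPp.to_le (hF.le G P))))
    (F := c.omega T₂) (fun x hx => hXN (hT₂ hx.1))
    (fun x hx => (map_subtype_le N) (hT₂ hx.1)) (fun x hx => hx.2)
    (le_trans (by norm_num) (c.card_omega T₂))
  exact hyM (hle (hF.normalizer_le P hy))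

end Cfsg.Agent.AbelianPComplement
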