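import Cfsg.Agent.Lib.AbelianPComplement.StrongEmb

/-!
# A minimal counterexample: `p` divides the index of a strongly embedded subgroup

Otherwise every product of a fixed involution of `M` with one outside has a fixed coset, and the
pairs of cosets exchanged by involutions are too few to account for all of them.
-/

set_option autoImplicit false

namespace Cfsg.Agent.AbelianPComplement

open Subgroup
open Cfsg (IsStronglyEmbedded)
open Cfsg.Agent.Involution

universe u

variable {G : Type u} [Group G] [Finite G] {p : ℕ} [hp : Fact p.Prime]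

/-- The product of an involution of `M` and one outside has `p`-power order. -/
theorem MinCtx.pow_prime_pow_mul_eq_one (c : MinCtx p G) {M : Subgroup G} (hM : IsStronglyEmbedded M)
    {t v : G} (ht : t ∈ M) (ht2 : orderOf t = 2) (hv : v ∉ M) (hv2 : orderOf v = 2) :
    ∃ k, (t * v) ^ p ^ k = 1 := by
  obtain ⟨k, r, hr, hkr⟩ := Nat.exists_eq_pow_mul_and_not_dvd (orderOf_pos (t * v)).ne' p
    hp.out.ne_one
  refine ⟨k, ?_⟩
  have ho : orderOf ((t * v) ^ p ^ k) = r := by
    rw [orderOf_pow, hkr, Nat.gcd_eq_right (Dvd.intro _ rfl),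
      Nat.mul_div_cancel_left _ (pow_pos hp.out.pos k)]
  refine c.hyp.eq_one_of_inverted c.ne_two (StrongEmb.mul_self_of_orderOf ht2) ?_ ?_ ?_
  · rw [ho]
    exact Odd.of_dvd_nat (StrongEmb.odd_orderOf_mul hM ht ht2 hv hv2) (hkr ▸ dvd_mul_left _ _)
  · rw [ho]
    exact (hp.out.coprime_iff_not_dvd.2 hr).symm
  · rw [← conj_pow, ← inv_pow, mul_inv_rev, StrongEmb.inv_eq_of_orderOf hv2,
      StrongEmb.inv_eq_of_orderOf ht2, ← mul_assoc, StrongEmb.mul_self_of_orderOf ht2, one_mul]

omit [Finite G] in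
theorem smul_smul_self {X : Type*} [MulAction G X] {t : G} (ht : t * t = 1) (x : X) :
    t • t • x = x := by rw [smul_smul, ht, one_smul]

/-- The number of involutions outside `M`. -/
theorem card_outside {M : Subgroup G} (hM : IsStronglyEmbedded M) :
    Nat.card {v : G // orderOf v = 2 ∧ v ∉ M} =
      (M.index - 1) * Nat.card {t : G // orderOf t = 2 ∧ t ∈ M} := by
  classical
  haveI : Fintype (G ⧸ M) := Fintype.ofFinite _
  have hiff : ∀ v : G, v ∈ M ↔ v • ((1 : G) : G ⧸ M) = ((1 : G) : G ⧸ M) := fun v => by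
    rw [StrongEmb.smul_one_eq_iff, inv_one, one_mul]
  let f : {v : G // orderOf v = 2 ∧ v ∉ M} → {q : G ⧸ M // q ≠ ((1 : G) : G ⧸ M)} := fun v =>
    ⟨v.1 • ((1 : G) : G ⧸ M), fun h => v.2.2 ((hiff _).2 h)⟩
  rw [← Nat.card_congr (Equiv.sigmaFiberEquiv f), Nat.card_sigma]
  have hfib : ∀ q, Nat.card {v // f v = q} = Nat.card {t : G // orderOf t = 2 ∧ t ∈ M} := by
    rintro ⟨q, hq⟩
    rw [← StrongEmb.card_swap hM ((1 : G) : G ⧸ M) q (Ne.symm hq)]
    exact Nat.card_congr
      { toFun := fun v => ⟨v.1.1, v.1.2.1, congrArg Subtype.val v.2⟩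
        invFun := fun v => ⟨⟨v.1, v.2.1, fun h => hq (v.2.2 ▸ (hiff _).1 h)⟩, Subtype.ext v.2.2⟩
        left_inv := fun _ => rfl
        right_inv := fun _ => rfl }
  rw [Finset.sum_congr rfl (fun q _ => hfib q), Finset.sum_const, Finset.card_univ, smul_eq_mul]
  congr 1
  rw [← Nat.card_eq_fintype_card]
  have h1 := Nat.card_congr (Equiv.optionSubtypeNe ((1 : G) : G ⧸ M))
  rw [Finite.card_option, ← Subgroup.index_eq_card] at h1
  omega

theorem MinCtx.dvd_index (c : MinCtx p G) {M : Subgroup G} (hM : IsStronglyEmbedded M) :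
    p ∣ M.index := by
  classical
  haveI : Fintype (G ⧸ M) := Fintype.ofFinite _
  by_contra hnd
  obtain ⟨t, ht, ht2⟩ := StrongEmb.exists_involution hM
  set b := ((1 : G) : G ⧸ M)
  have htt := StrongEmb.mul_self_of_orderOf ht2
  have hiff : ∀ v : G, v ∈ M ↔ v • b = b := fun v => by
    rw [StrongEmb.smul_one_eq_iff, inv_one, one_mul]
  have hfix : ∀ q : G ⧸ M, t • q = q → q = b := by
    intro q
    induction q using QuotientGroup.induction_on with
    | _ g =>
      intro h
      rw [MulAction.Quotient.smul_coe, smul_eq_mul, eq_comm, QuotientGroup.eq] at h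
      refine (QuotientGroup.eq.2 ?_ : (g : G ⧸ M) = ((1 : G) : G ⧸ M))
      rw [mul_one]
      refine StrongEmb.mem_of_conj_mem hM ht ht2 ?_
      rwa [inv_inv, mul_assoc]
  -- every involution outside `M` is covered by two pairs
  haveI : Fintype G := Fintype.ofFinite _
  set V : Finset G := Finset.univ.filter fun v => orderOf v = 2 ∧ v ∉ M with hV
  set C : Finset (G ⧸ M) := Finset.univ.erase b
  set R : G → G ⧸ M → Prop := fun v q => v • q = t • q with hR
  have h2 : ∀ v ∈ V, 2 ≤ (C.bipartiteAbove R v).card := by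
    intro v hv
    obtain ⟨-, hv2, hvM⟩ := Finset.mem_filter.1 hv
    obtain ⟨k, hk⟩ := c.pow_prime_pow_mul_eq_one hM ht ht2 hvM hv2
    have hz : IsPGroup p (zpowers (t * v)) := by
      obtain ⟨j, -, hj⟩ := (Nat.dvd_prime_pow hp.out).1 (orderOf_dvd_of_pow_eq_one hk)
      exact IsPGroup.of_card (n := j) (by rw [Nat.card_zpowers, hj])
    obtain ⟨q, hq⟩ := hz.nonempty_fixed_point_of_prime_not_dvd_card (G ⧸ M)
      (by rwa [← Subgroup.index_eq_card])
    have hq' : (t * v) • q = q := hq ⟨t * v, mem_zpowers _⟩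
    have hvq : v • q = t • q := by
      calc v • q = t • ((t * v) • q) := by rw [mul_smul, smul_smul_self htt]
        _ = t • q := by rw [hq']
    have hqb : q ≠ b := fun h => hvM ((hiff v).2 (by rw [← h, hvq, h]; exact (hiff t).1 ht))
    have htqb : t • q ≠ b := fun h => hqb (by
      rw [← smul_smul_self htt q, h]; exact (hiff t).1 ht)
    refine (Finset.one_lt_card_iff.2 ⟨q, t • q, ?_, ?_, fun h => hqb (hfix q h.symm)⟩)
    · exact Finset.mem_bipartiteAbove R |>.2 ⟨Finset.mem_erase.2 ⟨hqb, Finset.mem_univ _⟩, hvq⟩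
    · refine Finset.mem_bipartiteAbove R |>.2 ⟨Finset.mem_erase.2 ⟨htqb, Finset.mem_univ _⟩, ?_⟩
      show v • t • q = t • t • q
      rw [← hvq, smul_smul_self (StrongEmb.mul_self_of_orderOf hv2), hvq, smul_smul_self htt]
  set n := Nat.card {t : G // orderOf t = 2 ∧ t ∈ M} with hn
  have h3 : ∀ q ∈ C, (V.bipartiteBelow R q).card ≤ n - 1 := by
    intro q hq
    have hqb := (Finset.mem_erase.1 hq).1
    have hne : q ≠ t • q := fun h => hqb (hfix q h.symm)
    rw [hn, ← StrongEmb.card_swap hM q (t • q) hne, Nat.card_eq_fintype_card,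
      Fintype.card_subtype]
    refine le_trans (Finset.card_le_card (t := (Finset.univ.filter
      fun i => orderOf i = 2 ∧ i • q = t • q).erase t) fun v hv => ?_) ?_
    · obtain ⟨hvV, hvR⟩ := Finset.mem_bipartiteBelow R |>.1 hv
      obtain ⟨-, hv2, hvM⟩ := Finset.mem_filter.1 hvV
      exact Finset.mem_erase.2 ⟨fun h => hvM (h ▸ ht), Finset.mem_filter.2
        ⟨Finset.mem_univ _, hv2, hvR⟩⟩
    · exact (Finset.card_erase_of_mem (Finset.mem_filter.2 ⟨Finset.mem_univ _, ht2, rfl⟩)).le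
  have h4 := Finset.card_mul_le_card_mul R h2 h3
  have hVc : V.card = (M.index - 1) * n := by
    rw [hn, ← card_outside hM, Nat.card_eq_fintype_card, Fintype.card_subtype]
  have hCc : C.card = M.index - 1 := by
    rw [Finset.card_erase_of_mem (Finset.mem_univ _), Finset.card_univ, ← Nat.card_eq_fintype_card,
      ← Subgroup.index_eq_card]
  rw [hVc, hCc] at h4
  have hn1 : 0 < n := by
    rw [hn]
    haveI : Nonempty {t : G // orderOf t = 2 ∧ t ∈ M} := ⟨⟨t, ht2, ht⟩⟩
    exact Nat.card_pos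
  have hm2 : 2 ≤ M.index := by
    by_contra hlt
    have h0 : M.index ≠ 0 := index_ne_zero_of_finite
    exact hM.1 (index_eq_one.1 (by omega))
  obtain ⟨n', hn'⟩ : ∃ n', n = n' + 1 := ⟨n - 1, by omega⟩
  rw [hn'] at h4
  obtain ⟨m', hm'⟩ : ∃ m', M.index = m' + 2 := ⟨M.index - 2, by omega⟩
  rw [hm'] at h4
  simp only [Nat.add_sub_cancel, show m' + 2 - 1 = m' + 1 by omega] at h4
  nlinarith

/-- A Sylow `p`-subgroup of `M` is nontrivial and has a `p`-element normalising it outside `M`. -/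
theorem MinCtx.exists_normalizing_not_mem (c : MinCtx p G) {M : Subgroup G}
    (hM : IsStronglyEmbedded M) (T : Sylow 2 G)
    (hNT : normalizer ((T : Subgroup G) : Set G) ≤ M) :
    ∃ P : Subgroup G, P ≤ M ∧ IsPGroup p P ∧ P ≠ ⊥ ∧
      (∀ Q : Subgroup G, P ≤ Q → Q ≤ M → IsPGroup p Q → Q = P) ∧
      ∃ y ∈ normalizer (P : Set G), y ∉ M ∧ ∃ k, y ^ p ^ k = 1 := by
  obtain ⟨P₀⟩ : Nonempty (Sylow p M) := inferInstance
  set P := (P₀ : Subgroup M).map M.subtype with hP
  have hPM : P ≤ M := map_subtype_le _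
  have hPp : IsPGroup p P := P₀.isPGroup'.map _
  have hmax : ∀ Q : Subgroup G, P ≤ Q → Q ≤ M → IsPGroup p Q → Q = P := by
    intro Q hPQ hQM hQ
    have h1 := P₀.is_maximal' (hQ.comap_of_injective M.subtype M.subtype_injective)
      (fun x hx => hPQ (mem_map_of_mem _ hx))
    refine le_antisymm (fun x hx => ?_) hPQ
    have h2 : (⟨x, hQM hx⟩ : M) ∈ (P₀ : Subgroup M) := h1 ▸ (show (⟨x, hQM hx⟩ : M) ∈ Q.comap M.subtype from hx)
    exact mem_map_of_mem M.subtype h2
  have hdvd : p ∣ Nat.card M := (c.dvd_card_normalizer T).trans (card_dvd_of_le hNT)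
  have hne : P ≠ ⊥ := by
    rw [hP, Ne, Subgroup.map_eq_bot_iff_of_injective _ M.subtype_injective]
    exact P₀.ne_bot_of_dvd_card hdvd
  obtain ⟨S, hS⟩ := hPp.exists_le_sylow
  have hlt : P < (S : Subgroup G) := by
    refine lt_of_le_of_ne hS fun h => S.not_dvd_index ?_
    rw [← h]
    exact (c.dvd_index hM).trans (index_dvd_of_le hPM)
  obtain ⟨y, hy, hyP⟩ := SetLike.exists_of_lt (SmallSimple.lt_inf_normalizer S.isPGroup' hlt)
  refine ⟨P, hPM, hPp, hne, hmax, y, (mem_inf.1 hy).2, fun hyM => hyP ?_, ?_⟩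
  · have hle : P ⊔ zpowers y ≤ (S : Subgroup G) := sup_le hS (zpowers_le.2 (mem_inf.1 hy).1)
    have h1 := hmax _ le_sup_left (sup_le hPM (zpowers_le.2 hyM)) (S.isPGroup'.to_le hle)
    rw [← h1]
    exact mem_sup_right (mem_zpowers y)
  · obtain ⟨k, hk⟩ := S.isPGroup' ⟨y, (mem_inf.1 hy).1⟩
    exact ⟨k, congrArg (fun z : (S : Subgroup G) => (z : G)) hk⟩

end Cfsg.Agent.AbelianPComplement
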