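import Cfsg.Agent.Lib.PCore.Basic
import Cfsg.Agent.Lib.Solvable.Hall
import Cfsg.Agent.Lib.Components.Fitting
import Cfsg.Agent.Lib.Coprime.Basic

/-!
# Groups whose `p'`-subgroups are abelian of exponent dividing `p - 1`

Inheritance, and the structure of the soluble ones: with `A` a `p`-complement of `X`,
`X = O_p(X) N(A)` and every `p`-subgroup normalised by `A` lies in `O_p(X)`.
-/

set_option autoImplicit false

namespace Cfsg.Agent.AbelianPComplement

open Subgroup
open scoped Pointwise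
open Cfsg (pCore pPrimeCore)

/-- Every `p'`-subgroup is abelian of exponent dividing `p - 1`. -/
def Hyp (p : ℕ) (G : Type*) [Group G] : Prop :=
  ∀ H : Subgroup G, (Nat.card ↥H).Coprime p → IsMulCommutative ↥H ∧ ∀ x ∈ H, x ^ (p - 1) = 1

variable {G : Type*} [Group G] {p : ℕ}

theorem Hyp.comm (h : Hyp p G) {H : Subgroup G} (hH : (Nat.card H).Coprime p) {x y : G}
    (hx : x ∈ H) (hy : y ∈ H) : x * y = y * x :=
  congrArg Subtype.val ((h H hH).1.is_comm.comm ⟨x, hx⟩ ⟨y, hy⟩)

theorem Hyp.le_centralizer (h : Hyp p G) {A H : Subgroup G} (hA : (Nat.card A).Coprime p)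
    (hH : H ≤ A) : A ≤ centralizer (H : Set G) :=
  fun _ ha => mem_centralizer_iff.2 fun _ hy => h.comm hA (hH hy) ha

theorem Hyp.of_subgroup (h : Hyp p G) (X : Subgroup G) : Hyp p ↥X := by
  intro H hH
  obtain ⟨hc, he⟩ := h (H.map X.subtype) (by rwa [card_map_of_injective X.subtype_injective])
  refine ⟨⟨⟨fun a b => ?_⟩⟩, fun x hx => Subtype.ext ?_⟩
  · have h1 := congrArg Subtype.val
      (hc.is_comm.comm ⟨_, mem_map_of_mem X.subtype a.2⟩ ⟨_, mem_map_of_mem X.subtype b.2⟩)
    exact Subtype.ext (Subtype.ext (by simpa using h1))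
  · simpa using he _ (mem_map_of_mem _ hx)

variable [Finite G]

theorem card_sup_dvd_mul {H K : Subgroup G} (h : H ≤ normalizer (K : Set G)) :
    Nat.card ↥(H ⊔ K) ∣ Nat.card H * Nat.card K := by
  have hn : (K.subgroupOf (H ⊔ K)).Normal :=
    (normal_subgroupOf_iff_le_normalizer le_sup_right).2 (sup_le h le_normalizer)
  have h1 := PCore.card_sup_dvd (K.subgroupOf (H ⊔ K)) (H.subgroupOf (H ⊔ K))
  rw [← subgroupOf_sup le_sup_right le_sup_left, sup_comm K H, subgroupOf_self,
    card_top, Nat.card_congr (subgroupOfEquivOfLe le_sup_right).toEquiv,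
    Nat.card_congr (subgroupOfEquivOfLe le_sup_left).toEquiv] at h1
  rwa [mul_comm]

theorem coprime_card_sup {H K : Subgroup G} (h : H ≤ normalizer (K : Set G))
    (hH : (Nat.card H).Coprime p) (hK : (Nat.card K).Coprime p) :
    (Nat.card ↥(H ⊔ K)).Coprime p :=
  (hH.mul_left hK).coprime_dvd_left (card_sup_dvd_mul h)

omit [Finite G] in
theorem coprime_card_zpowers {x : G} (hx : (orderOf x).Coprime p) :
    (Nat.card ↥(zpowers x)).Coprime p := by
  rwa [Nat.card_zpowers]

theorem coprime_of_isPGroup_two [hp : Fact p.Prime] (hp2 : p ≠ 2) {T : Subgroup G}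
    (hT : IsPGroup 2 T) : (Nat.card T).Coprime p := by
  obtain ⟨k, hk⟩ := IsPGroup.iff_card.1 hT
  rw [hk]
  exact Nat.Coprime.pow_left k ((Nat.coprime_primes Nat.prime_two hp.out).2 (Ne.symm hp2))

/-- An involution inverts no nontrivial element of odd order prime to `p`. -/
theorem Hyp.eq_one_of_inverted [hp : Fact p.Prime] (hp2 : p ≠ 2) (h : Hyp p G) {t x : G}
    (ht : t * t = 1) (hx : Odd (orderOf x)) (hpx : (orderOf x).Coprime p)
    (hinv : t * x * t⁻¹ = x⁻¹) : x = 1 := by
  have ho : (orderOf t).Coprime p := Nat.Coprime.coprime_dvd_left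
    (orderOf_dvd_of_pow_eq_one (by rw [pow_two]; exact ht))
    ((Nat.coprime_primes Nat.prime_two hp.out).2 (Ne.symm hp2))
  have hN : zpowers t ≤ normalizer (zpowers x : Set G) := by
    rw [zpowers_le, mem_normalizer_iff_map_conj_eq, MonoidHom.map_zpowers]
    show zpowers (t * x * t⁻¹) = _
    rw [hinv, zpowers_inv]
  have hc := h.comm (coprime_card_sup hN (coprime_card_zpowers ho) (coprime_card_zpowers hpx))
    (mem_sup_left (mem_zpowers t)) (mem_sup_right (mem_zpowers x))
  rw [hc, mul_inv_cancel_right] at hinv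
  have h2 : x ^ 2 = 1 := by
    rw [pow_two]
    nth_rewrite 2 [hinv]
    exact mul_inv_cancel x
  rcases (Nat.dvd_prime Nat.prime_two).1 (orderOf_dvd_of_pow_eq_one h2) with h1 | h1
  · exact orderOf_eq_one_iff.1 h1
  · rw [h1] at hx; exact absurd hx (by decide)

variable [hp : Fact p.Prime]

/-- A `p'`-group is the image of a `p'`-subgroup of a soluble group mapping onto it. -/
theorem exists_coprime_map_eq_top {H : Type*} [Group H] [Finite H] [Group.IsSolvable G] (f : G →* H)
    (hf : Function.Surjective f) (hH : (Nat.card H).Coprime p) :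
    ∃ A : Subgroup G, (Nat.card A).Coprime p ∧ A.map f = ⊤ := by
  obtain ⟨A, hA, hAp⟩ := Solvable.exists_pComplement (G := G) hp.out
  refine ⟨A, (hp.out.coprime_iff_not_dvd.2 hAp).symm, ?_⟩
  rw [← index_eq_one]
  refine Nat.eq_one_of_dvd_coprimes (hH.pow_right ((Nat.card G).factorization p))
    (index_dvd_card _) ?_
  rw [← hA]
  exact A.index_map_dvd hf

/-- The structure of a soluble group with abelian `p`-complement `A`. -/
theorem Hyp.structure [Group.IsSolvable G] (h : Hyp p G) {A : Subgroup G}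
    (hA : (Nat.card A).Coprime p) {k : ℕ} (hk : Nat.card G = Nat.card A * p ^ k) :
    (∀ R : Subgroup G, IsPGroup p R → A ≤ normalizer (R : Set G) → R ≤ pCore p G) ∧
      pCore p G ⊔ normalizer (A : Set G) = ⊤ := by
  set O := pCore p G with hO
  have hOp : IsPGroup p O := PCore.isPGroup_pCore
  set f := QuotientGroup.mk' O with hf
  set Ab := A.map f with hAb
  have hAbp : (Nat.card Ab).Coprime p := hA.coprime_dvd_left (card_map_dvd _ f)
  have hAbc : Nat.card Ab = Nat.card A := by
    refine (Nat.card_congr (Equiv.ofBijective (fun a : A => (⟨f a, mem_map_of_mem f a.2⟩ : Ab))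
      ⟨fun a b hab => ?_, ?_⟩)).symm
    · have h1 : (a : G)⁻¹ * b ∈ O :=
        QuotientGroup.eq.1 (congrArg Subtype.val hab : ((a : G) : G ⧸ O) = ((b : G) : G ⧸ O))
      have h2 : (a : G)⁻¹ * b = 1 := (Subgroup.mem_bot).1
        ((PCore.disjoint_of_isPGroup_of_coprime hOp hA).le_bot
          (mem_inf.2 ⟨h1, A.mul_mem (A.inv_mem a.2) b.2⟩))
      exact Subtype.ext (inv_mul_eq_one.1 h2)
    · rintro ⟨_, a, ha, rfl⟩
      exact ⟨⟨a, ha⟩, rfl⟩
  set K := pPrimeCore p (G ⧸ O) with hK
  have hFK : Cfsg.fittingSubgroup (G ⧸ O) ≤ K := by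
    rw [Components.fittingSubgroup_eq_iSup_pCore]
    refine iSup_le fun q => ?_
    haveI : Fact (q : ℕ).Prime := ⟨Nat.prime_of_mem_primeFactors q.2⟩
    by_cases hq : p = q
    · rw [← hq]
      exact PCore.pCore_quotient_self_eq_bot.le.trans bot_le
    · exact PCore.pCore_le_pPrimeCore (Ne.symm hq)
  have hKA : K ≤ Ab := by
    have hd : Nat.card ↥(K ⊔ Ab) ∣ Nat.card A := by
      refine ((PCore.coprime_card_sup K Ab PCore.coprime_card_pPrimeCore hAbp).pow_right
        k).dvd_of_dvd_mul_right ?_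
      rw [← hk]
      exact (card_subgroup_dvd_card _).trans (card_quotient_dvd_card O)
    have he : Ab = K ⊔ Ab := eq_of_le_of_card_ge le_sup_right
      (hAbc ▸ Nat.le_of_dvd Nat.card_pos hd)
    rw [he]; exact le_sup_left
  have hAK : centralizer (Ab : Set (G ⧸ O)) ≤ K :=
    (centralizer_le (hFK.trans hKA)).trans (Components.centralizer_fittingSubgroup_le.trans hFK)
  have hAA : Ab ≤ centralizer (Ab : Set (G ⧸ O)) := by
    rintro _ ⟨a, ha, rfl⟩
    refine mem_centralizer_iff.2 ?_
    rintro _ ⟨b, hb, rfl⟩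
    rw [← map_mul, ← map_mul, h.comm hA hb ha]
  have hEq : Ab = K := le_antisymm (hAA.trans hAK) hKA
  have hAbn : Ab.Normal := by rw [hEq, hK]; infer_instance
  refine ⟨fun R hR hAR => ?_, ?_⟩
  · suffices hb : R.map f = ⊥ by
      rwa [Subgroup.map_eq_bot_iff, QuotientGroup.ker_mk'] at hb
    rw [eq_bot_iff]
    intro r hr
    have hRp : IsPGroup p ↥(R.map f) := hR.map f
    have hcomm : r ∈ centralizer (Ab : Set (G ⧸ O)) := by
      refine mem_centralizer_iff.2 ?_
      rintro _ ⟨a, ha, rfl⟩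
      obtain ⟨r', hr', rfl⟩ := hr
      have h1 : f a * f r' * (f a)⁻¹ * (f r')⁻¹ ∈ R.map f := by
        refine mul_mem ?_ (inv_mem (mem_map_of_mem f hr'))
        rw [← map_inv, ← map_mul, ← map_mul]
        exact mem_map_of_mem f ((mem_normalizer_iff.1 (hAR ha) r').1 hr')
      have h2 : f a * f r' * (f a)⁻¹ * (f r')⁻¹ ∈ Ab := by
        rw [mul_assoc (f a * f r'), mul_assoc (f a)]
        refine mul_mem (mem_map_of_mem f ha) ?_
        rw [← mul_assoc]
        exact hAbn.conj_mem _ (inv_mem (mem_map_of_mem f ha)) _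
      have h3 := (PCore.disjoint_of_isPGroup_of_coprime hRp hAbp).le_bot ⟨h1, h2⟩
      rw [mem_bot, mul_inv_eq_one, mul_inv_eq_iff_eq_mul] at h3
      exact h3
    exact (PCore.disjoint_of_isPGroup_of_coprime hRp
      PCore.coprime_card_pPrimeCore).le_bot ⟨hr, hAK hcomm⟩
  · rw [eq_top_iff]
    intro x _
    have hle : (MulAut.conj x • A : Subgroup G) ≤ A ⊔ O := by
      intro y hy
      rw [Coprime.mem_conj_smul_iff] at hy
      have h1 : f (x⁻¹ * y * x) ∈ Ab := mem_map_of_mem f (by simpa using hy)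
      have h2 := hAbn.conj_mem _ h1 (f x)
      rw [← map_inv, ← map_mul, ← map_mul] at h2
      have h3 : y ∈ Ab.comap f := by simpa [mul_assoc] using h2
      rwa [hAb, comap_map_eq, QuotientGroup.ker_mk'] at h3
    have hcop : (Nat.card A).Coprime (Nat.card O) := by
      obtain ⟨j, hj⟩ := PCore.exists_card_pCore (p := p) (G := G)
      rw [hO, hj]
      exact hA.pow_right j
    obtain ⟨n, hn, hnA⟩ := Coprime.exists_conj_eq_of_le_sup
      (H := A) (N := O) (by rw [normalizer_eq_top]; exact le_top) hle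
      (Coprime.card_conj_smul x A) hcop (Or.inl inferInstance)
    have hm : n⁻¹ * x ∈ normalizer (A : Set G) := by
      rw [mem_normalizer_iff]
      intro a
      rw [← SetLike.mem_coe, ← SetLike.mem_coe]
      have e : ∀ a : G, a ∈ A ↔ x * a * x⁻¹ ∈ MulAut.conj n • A := fun a => by
        rw [hnA, Coprime.mem_conj_smul_iff]; simp [mul_assoc]
      rw [SetLike.mem_coe, SetLike.mem_coe, e a, Coprime.mem_conj_smul_iff]
      simp [mul_assoc]
    rw [show x = n * (n⁻¹ * x) by group]
    exact mul_mem (mem_sup_left hn) (mem_sup_right hm)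

/-- `A` is a `p`-complement of `X`. -/
structure Compl (p : ℕ) (A X : Subgroup G) : Prop where
  le : A ≤ X
  coprime : (Nat.card A).Coprime p
  card : ∃ k, Nat.card X = Nat.card A * p ^ k

/-- `O_p(X)` inside the ambient group. -/
def op (p : ℕ) (X : Subgroup G) : Subgroup G := (pCore p ↥X).map X.subtype

omit [Finite G] hp in
theorem op_le (X : Subgroup G) : op p X ≤ X := map_subtype_le _

omit hp in
theorem isPGroup_op (X : Subgroup G) : IsPGroup p ↥(op p X) := PCore.isPGroup_pCore.map _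

omit [Finite G] hp in
theorem le_normalizer_op (X : Subgroup G) : X ≤ normalizer (op p X : Set G) := by
  intro x hx
  rw [mem_normalizer_iff]
  intro y
  constructor
  · rintro ⟨y, hy, rfl⟩
    exact ⟨⟨x, hx⟩ * y * ⟨x, hx⟩⁻¹, (Components.pCore_normal' p).conj_mem _ hy _, by simp⟩
  · rintro ⟨z, hz, hze⟩
    refine ⟨⟨x, hx⟩⁻¹ * z * ⟨x, hx⟩, ?_, ?_⟩
    · simpa using (Components.pCore_normal' p).conj_mem _ hz ⟨x, hx⟩⁻¹
    · rw [map_mul, map_mul, hze, map_inv]
      simp [mul_assoc]

/-- A maximal `p'`-subgroup of the ambient group is a complement in every soluble overgroup. -/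
theorem compl_of_maximal {A X : Subgroup G} [Group.IsSolvable X]
    (hA : (Nat.card A).Coprime p) (hmax : ∀ H : Subgroup G, A ≤ H → (Nat.card H).Coprime p → H ≤ A)
    (hAX : A ≤ X) : Compl p A X := by
  set k := (Nat.card X).factorization p
  have h0 : Nat.card X ≠ 0 := Nat.card_pos.ne'
  obtain ⟨H, hH, hKH⟩ := Solvable.exists_hall_ge (G := X)
    (m := Nat.card X / p ^ k) (n := p ^ k) (K := A.subgroupOf X)
    (by rw [mul_comm, Nat.ordProj_mul_ordCompl_eq_self])
    ((Nat.coprime_ordCompl hp.out h0).symm.pow_right _)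
    (by rw [Nat.card_congr (subgroupOfEquivOfLe hAX).toEquiv]; exact hA.pow_right k)
  have hle : A ≤ H.map X.subtype := fun a ha => ⟨⟨a, hAX ha⟩, hKH ha, rfl⟩
  have hcH : (Nat.card (H.map X.subtype)).Coprime p := by
    rw [card_map_of_injective X.subtype_injective, hH]
    exact ((hp.out.coprime_iff_not_dvd.2 (Nat.not_dvd_ordCompl hp.out h0))).symm
  refine ⟨hAX, hA, k, ?_⟩
  rw [le_antisymm hle (hmax _ hle hcH), card_map_of_injective X.subtype_injective, hH, mul_comm,
    Nat.ordProj_mul_ordCompl_eq_self]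

/-- A `p'`-subgroup of a soluble subgroup lies in a complement. -/
theorem exists_compl_ge {F X : Subgroup G} [Group.IsSolvable X] (hFX : F ≤ X)
    (hF : (Nat.card F).Coprime p) : ∃ A, F ≤ A ∧ Compl p A X := by
  set k := (Nat.card X).factorization p
  have h0 : Nat.card X ≠ 0 := Nat.card_pos.ne'
  obtain ⟨H, hH, hKH⟩ := Solvable.exists_hall_ge (G := X)
    (m := Nat.card X / p ^ k) (n := p ^ k) (K := F.subgroupOf X)
    (by rw [mul_comm, Nat.ordProj_mul_ordCompl_eq_self])
    ((Nat.coprime_ordCompl hp.out h0).symm.pow_right _)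
    (by rw [Nat.card_congr (subgroupOfEquivOfLe hFX).toEquiv]; exact hF.pow_right k)
  refine ⟨H.map X.subtype, fun a ha => ⟨⟨a, hFX ha⟩, hKH ha, rfl⟩, map_subtype_le _, ?_, k, ?_⟩
  · rw [card_map_of_injective X.subtype_injective, hH]
    exact ((hp.out.coprime_iff_not_dvd.2 (Nat.not_dvd_ordCompl hp.out h0))).symm
  · rw [card_map_of_injective X.subtype_injective, hH, mul_comm,
      Nat.ordProj_mul_ordCompl_eq_self]

variable (h : Hyp p G) {A X : Subgroup G} [Group.IsSolvable X]

include h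

theorem Compl.le_op (hA : Compl p A X) {R : Subgroup G} (hRX : R ≤ X) (hR : IsPGroup p R)
    (hAR : A ≤ normalizer (R : Set G)) : R ≤ op p X := by
  obtain ⟨k, hk⟩ := hA.card
  have hAc : Nat.card (A.subgroupOf X) = Nat.card A :=
    Nat.card_congr (subgroupOfEquivOfLe hA.le).toEquiv
  have h1 := ((h.of_subgroup X).structure (A := A.subgroupOf X) (hAc ▸ hA.coprime)
    (k := k) (by rw [hAc, hk])).1 (R.subgroupOf X)
    (hR.comap_of_injective _ X.subtype_injective) (fun a ha => ?_)
  · intro r hr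
    exact ⟨⟨r, hRX hr⟩, h1 hr, rfl⟩
  · rw [mem_normalizer_iff]
    intro r
    exact mem_normalizer_iff.1 (hAR ha) (r : G)

theorem Compl.exists_mul (hA : Compl p A X) {x : G} (hx : x ∈ X) :
    ∃ u ∈ op p X, ∃ n ∈ normalizer (A : Set G), n ∈ X ∧ x = u * n := by
  obtain ⟨k, hk⟩ := hA.card
  have hAc : Nat.card (A.subgroupOf X) = Nat.card A :=
    Nat.card_congr (subgroupOfEquivOfLe hA.le).toEquiv
  have h2 := ((h.of_subgroup X).structure (A := A.subgroupOf X) (hAc ▸ hA.coprime)
    (k := k) (by rw [hAc, hk])).2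
  haveI : (pCore p ↥X).Normal := Components.pCore_normal' p
  obtain ⟨u, hu, n, hn, hun⟩ : (⟨x, hx⟩ : X) ∈ (pCore p ↥X : Set X) *
      (normalizer ((A.subgroupOf X : Subgroup X) : Set X) : Set X) := by
    rw [← normal_mul, h2]; trivial
  refine ⟨u, mem_map_of_mem _ hu, n, ?_, n.2, (congrArg Subtype.val hun).symm⟩
  rw [mem_normalizer_iff]
  intro a
  constructor
  · intro ha
    exact (mem_normalizer_iff.1 hn ⟨a, hA.le ha⟩).1 ha
  · intro ha
    have haX : a ∈ X := by
      have := mul_mem (mul_mem (inv_mem n.2) (hA.le ha)) n.2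
      simpa [mul_assoc] using this
    exact (mem_normalizer_iff.1 hn ⟨a, haX⟩).2 ha

end Cfsg.Agent.AbelianPComplement
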