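import Cfsg.Agent.Lib.AbelianPComplement.Final
import Cfsg.Agent.Lib.FTConsumers.Hyp
import Cfsg.Agent.Lib.CharInt.Burnside

/-!
# Groups whose `p'`-subgroups are abelian of exponent dividing `p - 1` are soluble

The odd order theorem enters as a hypothesis.
-/

set_option autoImplicit false

namespace Cfsg.Agent.AbelianPComplement

open Subgroup
open scoped Pointwise
open Cfsg.Agent.FTConsumers (OddOrder)

universe u

/-- A `p'`-element has order dividing `p - 1`. -/
theorem Hyp.pow_eq_one {G : Type u} [Group G] [Finite G] {p : ℕ} (h : Hyp p G) {x : G}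
    (hx : (orderOf x).Coprime p) : x ^ (p - 1) = 1 :=
  (h (zpowers x) (coprime_card_zpowers hx)).2 x (mem_zpowers x)

/-- Small primes. -/
theorem Hyp.isSolvable_small {G : Type u} [Group G] [Finite G] {p : ℕ} [hp : Fact p.Prime]
    (h : Hyp p G) (h3 : p ≤ 3) : Group.IsSolvable G := by
  haveI : Fact (Nat.Prime 2) := ⟨Nat.prime_two⟩
  obtain rfl | rfl : p = 2 ∨ p = 3 := by have := hp.out.two_le; omega
  · have hG : IsPGroup 2 G := fun x => by
      obtain ⟨k, r, hr, hkr⟩ := Nat.exists_eq_pow_mul_and_not_dvd (orderOf_pos x).ne' 2 (by norm_num)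
      refine ⟨k, ?_⟩
      simpa using h.pow_eq_one (x := x ^ 2 ^ k) (by
        rw [orderOf_pow, hkr, Nat.gcd_eq_right (Dvd.intro _ rfl),
          Nat.mul_div_cancel_left _ (pow_pos two_pos k)]
        exact (Nat.prime_two.coprime_iff_not_dvd.2 hr).symm)
    haveI := hG.isNilpotent
    infer_instance
  · have hq : ∀ q, q.Prime → q ∣ Nat.card G → q = 2 ∨ q = 3 := by
      intro q hq hdvd
      by_cases h3' : q = 3
      · exact Or.inr h3'
      haveI := Fact.mk hq
      obtain ⟨x, hx⟩ := exists_prime_orderOf_dvd_card' (G := G) q hdvd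
      have h1 := h.pow_eq_one (x := x) (hx ▸ (Nat.coprime_primes hq hp.out).2 h3')
      exact Or.inl ((Nat.prime_dvd_prime_iff_eq hq Nat.prime_two).1
        (hx ▸ orderOf_dvd_of_pow_eq_one h1))
    obtain ⟨a, m, hm, ham⟩ := Nat.exists_eq_pow_mul_and_not_dvd (Nat.card_pos (α := G)).ne' 2
      (by norm_num)
    have hm3 : m = 3 ^ m.primeFactorsList.length :=
      Nat.eq_prime_pow_of_unique_prime_dvd (fun h0 => hm (h0 ▸ dvd_zero 2)) fun {d} hd hdm =>
        (hq d hd (hdm.trans (ham ▸ dvd_mul_left _ _))).resolve_left fun h2 => hm (h2 ▸ hdm)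
    exact CharInt.isSolvable_of_card_eq Nat.prime_two Nat.prime_three (hm3 ▸ ham)

/-- The quotient by a normal subgroup inherits the hypothesis, or the group is soluble. -/
theorem isSolvable_of_normal {G : Type u} [Group G] [Finite G] {p : ℕ} [hp : Fact p.Prime]
    (h : Hyp p G) (hsol : ∀ X : Subgroup G, X ≠ ⊤ → Group.IsSolvable X) (N : Subgroup G) [N.Normal]
    (hN : N ≠ ⊤) (hquot : Hyp p (G ⧸ N) → Group.IsSolvable (G ⧸ N)) : Group.IsSolvable G := by
  haveI := hsol N hN
  suffices hq : Group.IsSolvable (G ⧸ N) from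
    Group.isSolvable_of_ker_le_range N.subtype (QuotientGroup.mk' N)
      (by rw [QuotientGroup.ker_mk', range_subtype])
  by_cases hfull : (Nat.card (G ⧸ N)).Coprime p
  · obtain ⟨Q⟩ : Nonempty (Sylow p N) := inferInstance
    set X := normalizer (((Q : Subgroup N).map N.subtype : Subgroup G) : Set G) with hX
    have hfr : X ⊔ N = ⊤ := Sylow.normalizer_sup_eq_top Q
    by_cases hXt : X = ⊤
    · set Q' := (Q : Subgroup N).map N.subtype with hQ'
      have hQn : Q'.Normal := normalizer_eq_top_iff.1 hXt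
      have hidx : (Nat.card Q').Coprime Q'.index := by
        obtain ⟨k, hk⟩ := IsPGroup.iff_card.1 Q.isPGroup'
        rw [hQ', index_map_subtype, card_map_of_injective N.subtype_injective, hk]
        refine Nat.Coprime.pow_left k (hp.out.coprime_iff_not_dvd.2
          (hp.out.not_dvd_mul Q.not_dvd_index ?_))
        rw [N.index_eq_card]
        exact (hp.out.coprime_iff_not_dvd).1 hfull.symm
      haveI := hQn
      obtain ⟨K, hK⟩ := exists_right_complement'_of_coprime (N := Q') hidx
      have hKp : (Nat.card K).Coprime p := by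
        rw [← hK.symm.index_eq_card]
        rw [hQ', index_map_subtype, Nat.coprime_comm, hp.out.coprime_iff_not_dvd]
        refine hp.out.not_dvd_mul Q.not_dvd_index ?_
        rw [N.index_eq_card]
        exact (hp.out.coprime_iff_not_dvd).1 hfull.symm
      refine Group.isSolvable_of_comm fun a b => ?_
      obtain ⟨a, rfl⟩ := QuotientGroup.mk'_surjective N a
      obtain ⟨b, rfl⟩ := QuotientGroup.mk'_surjective N b
      obtain ⟨⟨⟨q₁, hq₁⟩, ⟨k₁, hk₁⟩⟩, h₁⟩ := hK.surjective a
      obtain ⟨⟨⟨q₂, hq₂⟩, ⟨k₂, hk₂⟩⟩, h₂⟩ := hK.surjective b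
      have hle : ∀ {q}, q ∈ Q' → QuotientGroup.mk' N q = 1 := fun hq =>
        (QuotientGroup.eq_one_iff _).2 ((map_subtype_le (Q : Subgroup N)) hq)
      rw [← h₁, ← h₂]
      simp only [map_mul, hle hq₁, hle hq₂, one_mul]
      rw [← map_mul, ← map_mul, h.comm hKp hk₁ hk₂]
    · haveI := hsol X hXt
      refine Group.isSolvable_of_surjective (f := (QuotientGroup.mk' N).comp X.subtype) ?_
      intro y
      obtain ⟨g, rfl⟩ := QuotientGroup.mk'_surjective N y
      obtain ⟨x, hx, n, hn, rfl⟩ : g ∈ (X : Set G) * (N : Set G) := by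
        rw [← mul_normal, hfr]; trivial
      exact ⟨⟨x, hx⟩, by simp [(QuotientGroup.eq_one_iff n).2 hn]⟩
  · refine hquot fun H hH => ?_
    set f := QuotientGroup.mk' N
    haveI : Group.IsSolvable ↥(H.comap f) := hsol _ fun ht => hfull (by
      have h1 : H = ⊤ := by
        rw [← map_comap_eq_self_of_surjective (QuotientGroup.mk'_surjective N) H, ht,
          map_top_of_surjective f (QuotientGroup.mk'_surjective N)]
      rwa [h1, card_top] at hH)
    have hsurj : Function.Surjective (f.subgroupComap H) := fun x => by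
      obtain ⟨g, hg⟩ := QuotientGroup.mk'_surjective N (x : G ⧸ N)
      exact ⟨⟨g, show f g ∈ H by rw [show f g = _ from hg]; exact x.2⟩, Subtype.ext hg⟩
    obtain ⟨A, hA, htop⟩ := exists_coprime_map_eq_top (f.subgroupComap H) hsurj hH
    obtain ⟨hAc, hAe⟩ := (h.of_subgroup (H.comap f)) A hA
    refine ⟨⟨⟨fun a b => ?_⟩⟩, fun x hx => ?_⟩
    · obtain ⟨a', ha', rfl⟩ : a ∈ A.map (f.subgroupComap H) := htop ▸ mem_top _
      obtain ⟨b', hb', rfl⟩ : b ∈ A.map (f.subgroupComap H) := htop ▸ mem_top _
      rw [← map_mul, ← map_mul, (h.of_subgroup _).comm hA ha' hb']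
    · obtain ⟨x', hx', he⟩ : (⟨x, hx⟩ : H) ∈ A.map (f.subgroupComap H) := htop ▸ mem_top _
      have h1 : (⟨x, hx⟩ : H) ^ (p - 1) = 1 := by rw [← he, ← map_pow, hAe x' hx', map_one]
      exact congrArg Subtype.val h1

/-- **A group whose `p'`-subgroups are abelian of exponent dividing `p - 1` is soluble.** -/
theorem isSolvable (hFT : OddOrder.{u}) {G : Type u} [Group G] [Finite G] (p : ℕ)
    [hp : Fact p.Prime] (h : Hyp p G) : Group.IsSolvable G := by
  by_cases h3 : p ≤ 3
  · exact h.isSolvable_small h3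
  suffices key : ∀ (n : ℕ) (H : Type u) [Group H] [Finite H], Nat.card H = n → Hyp p H →
      Group.IsSolvable H from key _ G rfl h
  intro n
  induction n using Nat.strong_induction_on with
  | _ n ih =>
  intro H _ _ hn hH
  by_contra hns
  have hsol : ∀ X : Subgroup H, X ≠ ⊤ → Group.IsSolvable X := fun X hX =>
    ih _ (hn ▸ lt_of_le_of_ne (card_le_card_group X)
      fun he => hX (X.eq_top_of_card_eq he)) X rfl (hH.of_subgroup X)
  have hnt : Nontrivial H := by
    by_contra hc
    rw [not_nontrivial_iff_subsingleton] at hc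
    exact hns (Group.isSolvable_of_comm fun a b => Subsingleton.elim _ _)
  have hsimple : IsSimpleGroup H := by
    refine ⟨fun N hN => or_iff_not_imp_right.2 fun htop => ?_⟩
    by_contra hbot
    haveI := hN
    refine hns (isSolvable_of_normal hH hsol N htop fun hq => ih _ ?_ (H ⧸ N) rfl hq)
    rw [← hn, N.card_eq_card_quotient_mul_card_subgroup]
    exact lt_mul_of_one_lt_right Nat.card_pos ((one_lt_card_iff_ne_bot N).2 hbot)
  refine MinCtx.false (p := p) (G := H) ⟨hH, ?_, ?_, hsimple, hns, hsol⟩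
  · by_contra h5
    have h4 : p = 4 := by omega
    have := hp.out
    rw [h4] at this
    exact absurd this (by norm_num)
  · by_contra hev
    exact hns (hFT H (Nat.not_even_iff_odd.1 hev))

end Cfsg.Agent.AbelianPComplement
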