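import Cfsg.Agent.Lib.AbelianPComplement.CoreInvolution

/-!
# A minimal counterexample: the involutions of `M` form a normal elementary abelian group

With `E` this group, `P` a Sylow `p`-subgroup of `M` has order `p` and is regular on `E \ {1}`, and
the centraliser of every involution is a `p'`-group.
-/

set_option autoImplicit false

namespace Cfsg.Agent.AbelianPComplement

open Subgroup
open Cfsg (IsStronglyEmbedded pPrimeCore)
open Cfsg.Agent.Involution

universe u

/-- If `2 ^ r - 1` is a power of an odd number `p`, it is at most `p`. -/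
theorem eq_one_of_two_pow {p i r : ℕ} (hp : Odd p) (hp3 : 3 ≤ p) (hr : 2 ≤ r)
    (h : p ^ i + 1 = 2 ^ r) : i = 1 := by
  have h4 : 4 ∣ 2 ^ r := by
    obtain ⟨s, rfl⟩ := Nat.exists_eq_add_of_le hr
    exact ⟨2 ^ s, by rw [pow_add]; norm_num⟩
  rcases Nat.even_or_odd i with ⟨j, rfl⟩ | hi
  · exfalso
    obtain ⟨a, ha⟩ := hp.pow (n := j)
    have : p ^ (j + j) + 1 = 4 * (a * a + a) + 2 := by rw [pow_add, ha]; ring
    rw [← h, this] at h4
    omega
  · set S : ℤ := ∑ j ∈ Finset.range i, (-(p : ℤ)) ^ j with hS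
    have hmul : ((p : ℤ) + 1) * S = 2 ^ r := by
      have h1 := mul_geom_sum (-(p : ℤ)) i
      rw [hi.neg_pow] at h1
      rw [← hS] at h1
      have h2 : ((p : ℤ) ^ i + 1) = 2 ^ r := by exact_mod_cast h
      linear_combination (-1 : ℤ) * h1 + h2
    have hodd : ¬ (2 : ℤ) ∣ S := by
      intro hd
      have hd' : ((S : ℤ) : ZMod 2) = 0 := (ZMod.intCast_zmod_eq_zero_iff_dvd S 2).2 hd
      have hp2 : (p : ZMod 2) = 1 := by
        obtain ⟨a, rfl⟩ := hp
        push_cast
        rw [show (2 : ZMod 2) = 0 from rfl, zero_mul, zero_add]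
      rw [hS] at hd'
      push_cast at hd'
      simp only [hp2, ZMod.neg_eq_self_mod_two, one_pow, Finset.sum_const, Finset.card_range,
        nsmul_eq_mul, mul_one] at hd'
      rw [ZMod.natCast_eq_zero_iff_even] at hd'
      exact (Nat.not_even_iff_odd.2 hi) hd'
    have hS1 : S.natAbs = 1 := by
      have hd : S.natAbs ∣ 2 ^ r := by
        have := Int.natAbs_dvd_natAbs.2 (Dvd.intro_left ((p : ℤ) + 1) hmul)
        simpa [Int.natAbs_pow] using this
      obtain ⟨k, -, hk⟩ := (Nat.dvd_prime_pow Nat.prime_two).1 hd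
      rcases k.eq_zero_or_pos with rfl | hk0
      · simpa using hk
      · exact absurd (Int.natCast_dvd.2 (hk ▸ dvd_pow_self 2 hk0.ne')) hodd
    have hpos : 0 < S := pos_of_mul_pos_right (hmul ▸ pow_pos two_pos r) (by omega)
    have hS' : S = 1 := by omega
    rw [hS', mul_one] at hmul
    have hpp : p ^ i = p := by
      have : ((p : ℤ) ^ i + 1) = (p : ℤ) + 1 := by rw [hmul]; exact_mod_cast h
      exact_mod_cast add_right_cancel this
    exact Nat.pow_right_injective (by omega) (hpp.trans (pow_one p).symm)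

variable {G : Type u} [Group G] [Finite G] {p : ℕ} [hp : Fact p.Prime]

/-- The subgroup of involutions of `M`. -/
structure InvolutionGroup (M E : Subgroup G) : Prop where
  le : E ≤ M
  normal : M ≤ normalizer (E : Set G)
  mem : ∀ x ∈ M, x * x = 1 → x ∈ E
  sq : ∀ x ∈ E, x * x = 1
  card : 8 ≤ Nat.card E

theorem MinCtx.exists_involutionGroup (c : MinCtx p G) {M : Subgroup G} (hM : IsStronglyEmbedded M)
    (T : Sylow 2 G) (hNT : normalizer ((T : Subgroup G) : Set G) ≤ M) :
    ∃ E, InvolutionGroup M E := by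
  obtain ⟨s, hs, hs2⟩ := c.exists_involution_core hM T hNT
  obtain ⟨g, -, hg⟩ := SetLike.exists_of_lt (lt_top_iff_ne_top.mpr hM.1)
  set K := (pPrimeCore p ↥M).map M.subtype with hK
  have hKc : (Nat.card K).Coprime p := by
    rw [hK, card_map_of_injective M.subtype_injective]
    exact PCore.coprime_card_pPrimeCore
  have hKn : ∀ m ∈ M, ∀ x ∈ K, m * x * m⁻¹ ∈ K := by
    rintro m hm _ ⟨x, hx, rfl⟩
    exact ⟨⟨m, hm⟩ * x * ⟨m, hm⟩⁻¹, (inferInstance : (pPrimeCore p ↥M).Normal).conj_mem _ hx _,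
      by simp⟩
  have hall : ∀ x ∈ M, x * x = 1 → x ∈ K := by
    intro x hx hx2
    by_cases h1 : x = 1
    · rw [h1]; exact one_mem _
    · obtain ⟨d, hd, he⟩ := StrongEmb.exists_mem_inter_conj hM hg
        (s := (s : G)) (t := x) (by rwa [Subgroup.orderOf_coe]) s.2 (orderOf_eq_two hx2 h1) hx
      rw [← he]
      exact hKn d (mem_inf.1 hd).1 _ (mem_map_of_mem M.subtype hs)
  let E : Subgroup G :=
    { carrier := {x | x ∈ M ∧ x * x = 1}
      one_mem' := ⟨one_mem _, mul_one 1⟩
      mul_mem' := fun {x y} hx hy => ⟨mul_mem hx.1 hy.1, by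
        rw [mul_assoc, ← mul_assoc y x, c.hyp.comm hKc (hall y hy.1 hy.2) (hall x hx.1 hx.2),
          mul_assoc x y, ← mul_assoc, hx.2, one_mul, hy.2]⟩
      inv_mem' := fun {x} hx => ⟨inv_mem hx.1, by rw [← mul_inv_rev, hx.2, inv_one]⟩ }
  refine ⟨E, fun x hx => hx.1, fun m hm => ?_, fun x hx hx2 => ⟨hx, hx2⟩, fun x hx => hx.2, ?_⟩
  · rw [mem_normalizer_iff]
    intro x
    constructor
    · rintro ⟨hx, hx2⟩
      refine ⟨mul_mem (mul_mem hm hx) (inv_mem hm), ?_⟩
      rw [conj_mul, hx2, mul_one, mul_inv_cancel]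
    · rintro ⟨hx, hx2⟩
      have h1 := mul_mem (mul_mem (inv_mem hm) hx) hm
      rw [conj_mul, mul_inv_eq_one, mul_eq_left] at hx2
      exact ⟨by simpa [mul_assoc] using h1, hx2⟩
  · exact (c.card_omega T).trans (Nat.card_le_card_of_injective
      (fun x : c.omega T => (⟨x.1, hNT (le_normalizer x.2.1), x.2.2⟩ : E))
      (fun a b h => Subtype.ext (congrArg (fun z : E => (z : G)) h)))

omit [Finite G] hp in
theorem InvolutionGroup.le_normalizer {M E : Subgroup G} (hE : InvolutionGroup M E) {m : G}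
    (hm : m ∈ M) {e : G} (he : e ∈ E) : m * e * m⁻¹ ∈ E :=
  (mem_normalizer_iff.1 (hE.normal hm) e).1 he

omit hp in
theorem InvolutionGroup.exists_ne_one {M E : Subgroup G} (hE : InvolutionGroup M E) :
    ∃ e ∈ E, orderOf e = 2 := by
  by_contra h
  push Not at h
  have h8 := hE.card
  rw [(eq_bot_iff_forall E).2 fun x hx => by_contra fun h1 =>
    h x hx (orderOf_eq_two (hE.sq x hx) h1), card_bot] at h8
  omega

/-- A `p'`-element of `M` centralises `E`, so has its centraliser in `M`. -/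
theorem MinCtx.commute_pPrime (c : MinCtx p G) {M E : Subgroup G} (hE : InvolutionGroup M E)
    {d : G} (hd : d ∈ M) (hdp : (orderOf d).Coprime p) {e : G} (he : e ∈ E) : d * e = e * d := by
  have hE2 : IsPGroup 2 E := fun x => ⟨1, Subtype.ext (by
    show (x : G) ^ (2 ^ 1) = 1
    rw [pow_one, pow_two]; exact hE.sq _ x.2)⟩
  exact c.hyp.comm (coprime_card_sup (zpowers_le.2 (hE.normal hd)) (coprime_card_zpowers hdp)
    (coprime_of_isPGroup_two c.ne_two hE2)) (mem_sup_left (mem_zpowers d)) (mem_sup_right he)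

theorem MinCtx.centralizer_le (c : MinCtx p G) {M E : Subgroup G} (hM : IsStronglyEmbedded M)
    (hE : InvolutionGroup M E) {d : G} (hd1 : d ≠ 1) (hde : ∀ e ∈ E, d * e = e * d) :
    centralizer ({d} : Set G) ≤ M :=
  c.le_of_four hM (c.centralizer_ne_top hd1) (F := E)
    (fun e he => mem_centralizer_singleton_iff.2 (hde e he).symm) hE.le hE.sq
    (le_trans (by norm_num) hE.card)

/-- `M ∩ gMg⁻¹` is a `p`-group for `g ∉ M`. -/
theorem MinCtx.isPGroup_inter (c : MinCtx p G) {M E : Subgroup G} (hM : IsStronglyEmbedded M)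
    (hE : InvolutionGroup M E) {g : G} (hg : g ∉ M) :
    IsPGroup p ↥(M ⊓ M.map (MulAut.conj g).toMonoidHom) := by
  rintro ⟨x, hx⟩
  obtain ⟨k, r, hr, hkr⟩ := Nat.exists_eq_pow_mul_and_not_dvd (orderOf_pos x).ne' p hp.out.ne_one
  refine ⟨k, Subtype.ext ?_⟩
  show x ^ p ^ k = 1
  by_contra hne
  obtain ⟨hdM, w, hwM, hw⟩ := pow_mem hx (p ^ k)
  have hw' : g * w * g⁻¹ = x ^ p ^ k := hw
  have ho : (orderOf (x ^ p ^ k)).Coprime p := by
    rw [orderOf_pow, hkr, Nat.gcd_eq_right (Dvd.intro _ rfl),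
      Nat.mul_div_cancel_left _ (pow_pos hp.out.pos k)]
    exact (hp.out.coprime_iff_not_dvd.2 hr).symm
  have howp : (orderOf w).Coprime p := by
    rwa [← StrongEmb.orderOf_conj' g w, hw']
  obtain ⟨e, he, he2⟩ := hE.exists_ne_one
  have h1 := c.commute_pPrime hE hwM howp he
  have hcom : g * e * g⁻¹ * x ^ p ^ k = x ^ p ^ k * (g * e * g⁻¹) := by
    rw [← hw', conj_mul, conj_mul, h1]
  exact hg (StrongEmb.mem_of_conj_mem hM (hE.le he) he2
    (c.centralizer_le hM hE hne (fun e he => c.commute_pPrime hE hdM ho he)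
      (mem_centralizer_singleton_iff.2 hcom)))

/-- The facts about `M` used in the final count. -/
structure Regular (p : ℕ) (M E : Subgroup G) : Prop where
  card_involutions : Nat.card {t : G // orderOf t = 2 ∧ t ∈ M} = p
  not_dvd_centralizer : ∀ s : G, orderOf s = 2 → ¬ p ∣ Nat.card ↥(centralizer ({s} : Set G))
  card : ∀ t ∈ M, orderOf t = 2 → Nat.card M = p * Nat.card ↥(centralizer ({t} : Set G))

end Cfsg.Agent.AbelianPComplement
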