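import Cfsg.Agent.Lib.AbelianPComplement.NormalFour

/-!
# A minimal counterexample: a Sylow `p`-subgroup of `M` has order `p`

`P = M ∩ yMy⁻¹` is transitive on the involutions of `M`, so there are `p` of them and `P₁ = C_P(E)`
has index `p`; an involution exchanging `M` and `yM` acts on the lines of `P` and forces `P₁ = 1`.
-/

set_option autoImplicit false

namespace Cfsg.Agent.AbelianPComplement

open Subgroup
open Cfsg (IsStronglyEmbedded)
open Cfsg.Agent.Involution

universe u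

variable {G : Type u} [Group G] [Finite G] {p : ℕ} [hp : Fact p.Prime]

omit hp in
/-- The index of the centraliser of an involution of `M` in a subgroup of `M` transitive on them. -/
theorem index_eq_card_involutions {M H : Subgroup G} (hH : H ≤ M) {s : G} (hs : s ∈ M)
    (hs2 : orderOf s = 2)
    (htr : ∀ t ∈ M, orderOf t = 2 → ∃ d ∈ H, d * s * d⁻¹ = t) :
    ((centralizer ({s} : Set G)).subgroupOf H).index =
      Nat.card {t : G // orderOf t = 2 ∧ t ∈ M} := by
  set S := (centralizer ({s} : Set G)).subgroupOf H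
  have hout : ∀ (d : H), (⟦d⟧ : H ⧸ S).out * s * ((⟦d⟧ : H ⧸ S).out : G)⁻¹ = d * s * (d : G)⁻¹ := by
    intro d
    have h1 : (⟦d⟧ : H ⧸ S).out⁻¹ * d ∈ S := QuotientGroup.eq.1 (QuotientGroup.out_eq' (⟦d⟧ : H ⧸ S))
    rw [mem_subgroupOf, mem_centralizer_singleton_iff, coe_mul, coe_inv] at h1
    generalize ((⟦d⟧ : H ⧸ S).out : G) = o at h1 ⊢
    calc o * s * o⁻¹ = o * (s * (o⁻¹ * d)) * (d : G)⁻¹ := by group
      _ = o * ((o⁻¹ * d) * s) * (d : G)⁻¹ := by rw [h1]
      _ = d * s * (d : G)⁻¹ := by group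
  rw [Subgroup.index_eq_card]
  refine Nat.card_eq_of_bijective (fun q : H ⧸ S => (⟨(q.out : G) * s * (q.out : G)⁻¹,
    by rw [StrongEmb.orderOf_conj', hs2],
    mul_mem (mul_mem (hH q.out.2) hs) (inv_mem (hH q.out.2))⟩ : {t : G // orderOf t = 2 ∧ t ∈ M}))
    ⟨fun a b hab => ?_, fun t => ?_⟩
  · have hab' : (a.out : G) * s * (a.out : G)⁻¹ = (b.out : G) * s * (b.out : G)⁻¹ :=
      congrArg Subtype.val hab
    rw [← QuotientGroup.out_eq' a, ← QuotientGroup.out_eq' b, QuotientGroup.eq, mem_subgroupOf,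
      mem_centralizer_singleton_iff, coe_mul, coe_inv]
    calc (a.out : G)⁻¹ * b.out * s
        = (a.out : G)⁻¹ * ((b.out : G) * s * (b.out : G)⁻¹) * b.out := by group
      _ = s * ((a.out : G)⁻¹ * b.out) := by rw [← hab']; group
  · obtain ⟨d, hd, he⟩ := htr t.1 t.2.2 t.2.1
    exact ⟨⟦⟨d, hd⟩⟧, Subtype.ext (by rw [← he]; exact hout ⟨d, hd⟩)⟩

omit hp in
theorem card_involutions_add_one {M E : Subgroup G} (hE : InvolutionGroup M E) :
    Nat.card {t : G // orderOf t = 2 ∧ t ∈ M} + 1 = Nat.card E := by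
  classical
  rw [← Finite.card_option]
  refine Nat.card_eq_of_bijective (fun o : Option {t : G // orderOf t = 2 ∧ t ∈ M} =>
    o.elim (1 : E) fun t => ⟨t.1, hE.mem t.1 t.2.2 (StrongEmb.mul_self_of_orderOf t.2.1)⟩)
    ⟨?_, fun e => ?_⟩
  · rintro (_ | a) (_ | b) hab
    · rfl
    · have := congrArg (fun e : E => orderOf (e : G)) hab
      simp [b.2.1] at this
    · have := congrArg (fun e : E => orderOf (e : G)) hab
      simp [a.2.1] at this
    · exact congrArg some (Subtype.ext (congrArg (fun e : E => (e : G)) hab))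
  · by_cases h1 : (e : G) = 1
    · exact ⟨none, Subtype.ext h1.symm⟩
    · exact ⟨some ⟨e, orderOf_eq_two (hE.sq _ e.2) h1, hE.le e.2⟩, rfl⟩

theorem MinCtx.regular (c : MinCtx p G) {M E : Subgroup G} (hM : IsStronglyEmbedded M)
    (T : Sylow 2 G) (hNT : normalizer ((T : Subgroup G) : Set G) ≤ M) (hE : InvolutionGroup M E) :
    Regular p M E := by
  classical
  haveI : Fintype G := Fintype.ofFinite G
  obtain ⟨P, hPM, hPp, hPne, hmax, y, hy, hyM, k, hyk⟩ := c.exists_normalizing_not_mem hM T hNT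
  have hyP : ∀ (j : ℕ), ∀ x ∈ P, y ^ j * x * (y ^ j)⁻¹ ∈ P := fun j x hx =>
    (mem_normalizer_iff.1 (pow_mem hy j) x).1 hx
  have hyP' : ∀ (j : ℕ), ∀ x ∈ P, (y ^ j)⁻¹ * x * y ^ j ∈ P := fun j x hx => by
    simpa using (mem_normalizer_iff.1 (inv_mem (pow_mem hy j)) x).1 hx
  have hD : M ⊓ M.map (MulAut.conj y).toMonoidHom = P := by
    refine hmax _ (fun x hx => mem_inf.2 ⟨hPM hx, ?_⟩) inf_le_left (c.isPGroup_inter hM hE hyM)
    exact ⟨y⁻¹ * x * y, hPM (by simpa using hyP' 1 x hx),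
      show y * (y⁻¹ * x * y) * y⁻¹ = x by group⟩
  have htr : ∀ s ∈ M, orderOf s = 2 → ∀ t ∈ M, orderOf t = 2 → ∃ d ∈ P, d * s * d⁻¹ = t := by
    intro s hs hs2 t ht ht2
    rw [← hD]
    exact StrongEmb.exists_mem_inter_conj hM hyM hs2 hs ht2 ht
  obtain ⟨e₀, he₀, he₀2⟩ := hE.exists_ne_one
  set n := Nat.card {t : G // orderOf t = 2 ∧ t ∈ M} with hn
  set S₀ := (centralizer ({e₀} : Set G)).subgroupOf P with hS₀
  have hidx : S₀.index = n :=
    index_eq_card_involutions hPM (hE.le he₀) he₀2 fun t ht ht2 => htr e₀ (hE.le he₀) he₀2 t ht ht2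
  -- `n = p`
  obtain ⟨j₀, hj₀⟩ := IsPGroup.iff_card.1 hPp
  have hnp : n = p := by
    obtain ⟨i, -, hi⟩ := (Nat.dvd_prime_pow hp.out).1 (hj₀ ▸ hidx ▸ S₀.index_dvd_card)
    have hE2 : IsPGroup 2 E := fun x => ⟨1, Subtype.ext (by
      show (x : G) ^ (2 ^ 1) = 1
      rw [pow_one, pow_two]; exact hE.sq _ x.2)⟩
    haveI : Fact (Nat.Prime 2) := ⟨Nat.prime_two⟩
    obtain ⟨r, hr⟩ := IsPGroup.iff_card.1 hE2
    have h1 := card_involutions_add_one hE
    rw [← hn, hr, hi] at h1
    have h8 := hE.card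
    have hr2 : 2 ≤ r := by
      by_contra h
      interval_cases r <;> omega
    have := c.five
    rw [hi, eq_one_of_two_pow (hp.out.odd_of_ne_two c.ne_two) (by omega) hr2 h1, pow_one]
  set P₁ := P ⊓ centralizer (E : Set G) with hP₁
  have hj0 : j₀ ≠ 0 := fun h => hPne (Subgroup.eq_bot_of_card_eq _ (by rw [hj₀, h, pow_zero]))
  have hS₀n : S₀.Normal := normal_of_index_eq_minFac_card (by
    rw [hidx, hnp, hj₀, hp.out.pow_minFac hj0])
  have hS₀P₁ : ∀ x : P, x ∈ S₀ ↔ (x : G) ∈ P₁ := by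
    intro x
    constructor
    · intro hx
      refine mem_inf.2 ⟨x.2, mem_centralizer_iff.2 fun e he => ?_⟩
      by_cases h1 : e = 1
      · rw [h1, one_mul, mul_one]
      obtain ⟨d, hd, rfl⟩ := htr e₀ (hE.le he₀) he₀2 e (hE.le he) (orderOf_eq_two (hE.sq e he) h1)
      have h2 := hS₀n.conj_mem x hx ⟨d, hd⟩⁻¹
      rw [hS₀, mem_subgroupOf, mem_centralizer_singleton_iff] at h2
      simp only [coe_mul, coe_inv, inv_inv] at h2
      calc d * e₀ * d⁻¹ * x = d * (e₀ * (d⁻¹ * x * d)) * d⁻¹ := by group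
        _ = d * ((d⁻¹ * x * d) * e₀) * d⁻¹ := by rw [h2]
        _ = x * (d * e₀ * d⁻¹) := by group
    · intro hx
      rw [hS₀, mem_subgroupOf, mem_centralizer_singleton_iff]
      exact (mem_centralizer_iff.1 (mem_inf.1 hx).2 e₀ he₀).symm
  have hcardP : Nat.card P = p * Nat.card P₁ := by
    have h1 : Nat.card S₀ = Nat.card P₁ := Nat.card_congr
      { toFun := fun x => ⟨x.1, (hS₀P₁ x.1).1 x.2⟩
        invFun := fun x => ⟨⟨x.1, (mem_inf.1 x.2).1⟩, (hS₀P₁ _).2 x.2⟩
        left_inv := fun _ => rfl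
        right_inv := fun _ => rfl }
    rw [← S₀.card_mul_index, hidx, hnp, h1, mul_comm]
  have hkey : ∀ g : G, g ∉ M → ∀ d ∈ P₁, g * d * g⁻¹ ∈ P₁ → d = 1 := by
    intro g hg d hd hgd
    by_contra hd1
    have hd1' : g * d * g⁻¹ ≠ 1 := fun h => hd1 (by
      rw [mul_inv_eq_one, mul_eq_left] at h; exact h)
    have h1 := c.centralizer_le hM hE hd1' fun e he =>
      ((mem_centralizer_iff.1 (mem_inf.1 hgd).2) e he).symm
    have h2 : g * e₀ * g⁻¹ ∈ centralizer ({g * d * g⁻¹} : Set G) := by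
      rw [mem_centralizer_singleton_iff, conj_mul, conj_mul,
        mem_centralizer_iff.1 (mem_inf.1 hd).2 e₀ he₀]
    exact hg (StrongEmb.mem_of_conj_mem hM (hE.le he₀) he₀2 (h1 h2))
  have hP₁P : P₁ ≤ P := inf_le_left
  -- `P₁ = 1`
  have hP₁bot : P₁ = ⊥ := by
    by_contra hne
    set L : ℕ → Subgroup G := fun j => P₁.map (MulAut.conj (y ^ j)).toMonoidHom with hL
    have hmemL : ∀ j x, x ∈ L j ↔ (y ^ j)⁻¹ * x * y ^ j ∈ P₁ := by
      intro j x
      constructor
      · rintro ⟨w, hw, rfl⟩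
        rwa [show (y ^ j)⁻¹ * (MulAut.conj (y ^ j)).toMonoidHom w * y ^ j = w from
          show (y ^ j)⁻¹ * (y ^ j * w * (y ^ j)⁻¹) * y ^ j = w by group]
      · intro hx
        exact ⟨_, hx, show y ^ j * ((y ^ j)⁻¹ * x * y ^ j) * (y ^ j)⁻¹ = x by group⟩
    have hLP : ∀ j, L j ≤ P := by
      rintro j _ ⟨w, hw, rfl⟩
      exact hyP j w (hP₁P hw)
    obtain ⟨a, ha⟩ : ∃ a, orderOf y = p ^ a := by
      obtain ⟨a, -, ha⟩ := (Nat.dvd_prime_pow hp.out).1 (orderOf_dvd_of_pow_eq_one hyk)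
      exact ⟨a, ha⟩
    have hpow : ∀ j, 0 < j → j < p → y ^ j ∉ M := by
      intro j h0 hlt h
      have hcop : j.Coprime (orderOf y) := ha ▸ Nat.Coprime.pow_right a
        ((hp.out.coprime_iff_not_dvd.2 fun h' => by have := Nat.le_of_dvd h0 h'; omega).symm)
      obtain ⟨m, hm⟩ := exists_pow_eq_self_of_coprime hcop
      exact hyM (hm ▸ pow_mem h m)
    have hdisj' : ∀ i j, i < j → j < p → ∀ x, x ∈ L i → x ∈ L j → x = 1 := by
      intro i j hij hj x hxi hxj
      rw [hmemL] at hxi hxj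
      obtain ⟨l, rfl⟩ := Nat.exists_eq_add_of_le hij.le
      have h1 := hkey (y ^ l) (hpow l (by omega) (by omega)) ((y ^ (i + l))⁻¹ * x * y ^ (i + l))
        hxj (by
          convert hxi using 1
          rw [add_comm i l, pow_add]; group)
      have h2 := congrArg (fun a => y ^ (i + l) * a * (y ^ (i + l))⁻¹) h1
      simpa [mul_assoc] using h2
    have hdisj : ∀ i < p, ∀ j < p, i ≠ j → ∀ x, x ∈ L i → x ∈ L j → x = 1 := by
      intro i hi j hj hij x hxi hxj
      rcases lt_or_gt_of_ne hij with h | h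
      · exact hdisj' i j h hj x hxi hxj
      · exact hdisj' j i h hi x hxj hxi
    have hcardL : ∀ j, Nat.card (L j) = Nat.card P₁ := fun j =>
      card_map_of_injective (MulAut.conj (y ^ j)).injective
    have hp1 : Nat.card P₁ = p := by
      have h1 : Nat.card P₁ ≤ p := by
        by_contra hlt
        have h2 := inf_ne_bot_of_card_lt (B := L 0) (B' := L 1) (hLP 0) (hLP 1)
          (by rw [hcardL, hcardL, hcardP]; exact Nat.mul_lt_mul_of_pos_right (not_le.1 hlt) Nat.card_pos)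
        exact h2 ((eq_bot_iff_forall _).2 fun x hx =>
          hdisj' 0 1 one_pos hp.out.one_lt x (mem_inf.1 hx).1 (mem_inf.1 hx).2)
      obtain ⟨i, hi⟩ := IsPGroup.iff_card.1 (hPp.to_le hP₁P)
      have hi0 : i ≠ 0 := fun h => hne (Subgroup.eq_bot_of_card_eq _ (by rw [hi, h, pow_zero]))
      exact le_antisymm h1 (hi ▸ Nat.le_self_pow hi0 p)
    have hcP : Nat.card P = p ^ 2 := by rw [hcardP, hp1, pow_two]
    have hPc : ∀ a ∈ P, ∀ b ∈ P, a * b = b * a := fun a ha b hb => congrArg Subtype.val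
      (IsPGroup.commutative_of_card_eq_prime_sq hcP (⟨a, ha⟩ : P) ⟨b, hb⟩)
    have hLexp : ∀ j, ∀ x ∈ L j, x ^ p = 1 := fun j x hx => by
      have h1 : (⟨x, hx⟩ : L j) ^ Nat.card (L j) = 1 := pow_card_eq_one'
      rw [hcardL, hp1] at h1
      exact congrArg Subtype.val h1
    have hexp : ∀ x ∈ P, x ^ p = 1 := by
      intro x hx
      let f : L 0 × L 1 → P := fun w => ⟨w.1 * w.2, mul_mem (hLP 0 w.1.2) (hLP 1 w.2.2)⟩
      have hf : Function.Injective f := by
        rintro ⟨a, b⟩ ⟨a', b'⟩ hab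
        have h1 : (a : G) * b = (a' : G) * b' := congrArg Subtype.val hab
        have h2 : (a' : G)⁻¹ * a = b' * (b : G)⁻¹ := by
          rw [inv_mul_eq_iff_eq_mul, ← mul_assoc, ← h1, mul_inv_cancel_right]
        have h3 := hdisj' 0 1 one_pos hp.out.one_lt _ ((L 0).mul_mem ((L 0).inv_mem a'.2) a.2)
          (h2 ▸ (L 1).mul_mem b'.2 ((L 1).inv_mem b.2))
        rw [inv_mul_eq_one] at h3
        exact Prod.ext (Subtype.ext h3.symm)
          (Subtype.ext (mul_left_cancel (a := (a : G)) (by rw [h1, h3])))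
      have hsurj := (hf.bijective_of_nat_card_le (by
        rw [Nat.card_prod, hcardL, hcardL, hp1, hcP, pow_two])).surjective ⟨x, hx⟩
      obtain ⟨w, hw⟩ := hsurj
      have hw' : (w.1 : G) * w.2 = x := congrArg Subtype.val hw
      have hcm : Commute (w.1 : G) w.2 := hPc _ (hLP 0 w.1.2) _ (hLP 1 w.2.2)
      rw [← hw', hcm.mul_pow, hLexp 0 _ w.1.2, hLexp 1 _ w.2.2, one_mul]
    -- an involution exchanging the cosets `M` and `yM`
    obtain ⟨u, hu2, hu⟩ : ∃ u : G, orderOf u = 2 ∧ u • ((1 : G) : G ⧸ M) = (y : G ⧸ M) := by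
      have h1 := StrongEmb.card_swap_base hM y hyM
      rw [← hn, hnp] at h1
      haveI : Nonempty {i : G // orderOf i = 2 ∧ i • ((1 : G) : G ⧸ M) = (y : G ⧸ M)} :=
        (Nat.card_pos_iff.1 (h1 ▸ hp.out.pos)).1
      obtain ⟨⟨u, hu⟩⟩ := this
      exact ⟨u, hu⟩
    rw [StrongEmb.smul_one_eq_iff] at hu
    have huu := StrongEmb.mul_self_of_orderOf hu2
    have hui := StrongEmb.inv_eq_of_orderOf hu2
    have huM : u ∉ M := fun h => hyM (by
      simpa using mul_mem h (inv_mem hu))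
    have huP : ∀ x ∈ P, u * x * u⁻¹ ∈ P := by
      intro x hx
      rw [← hD] at hx ⊢
      obtain ⟨hxM, w, hw, hwx⟩ := hx
      have hwx' : y * w * y⁻¹ = x := hwx
      refine ⟨?_, (y⁻¹ * u) * x * (y⁻¹ * u)⁻¹,
        mul_mem (mul_mem hu hxM) (inv_mem hu),
        show y * ((y⁻¹ * u) * x * (y⁻¹ * u)⁻¹) * y⁻¹ = u * x * u⁻¹ by group⟩
      have huy : u * y ∈ M := by
        have := inv_mem hu
        rwa [mul_inv_rev, inv_inv, hui] at this
      have := mul_mem (mul_mem huy hw) (inv_mem huy)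
      rw [← hwx']
      simpa [mul_assoc] using this
    obtain ⟨d, hd, hd1⟩ : ∃ d ∈ P₁, d ≠ 1 := by
      by_contra h
      push Not at h
      exact hne ((eq_bot_iff_forall _).2 h)
    have hudP := huP d (hP₁P hd)
    set c' := d * (u * d * u⁻¹) with hc'
    set i' := d * (u * d * u⁻¹)⁻¹ with hi'
    have hc'P : c' ∈ P := mul_mem (hP₁P hd) hudP
    have hi'P : i' ∈ P := mul_mem (hP₁P hd) (inv_mem hudP)
    have huu' : u * (u * d * u⁻¹) * u⁻¹ = d := by
      rw [hui]; simp only [← mul_assoc, huu, one_mul]; rw [mul_assoc, huu, mul_one]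
    have hc'1 : c' ≠ 1 := fun h => hd1 (hkey u huM d hd (by
      rw [hc', mul_eq_one_iff_inv_eq] at h
      rw [← h]; exact inv_mem hd))
    have hi'1 : i' ≠ 1 := fun h => hd1 (hkey u huM d hd (by
      rw [hi', mul_inv_eq_one] at h
      rw [← h]; exact hd))
    have hc'u : u * c' * u⁻¹ = c' := by
      rw [hc', show u * (d * (u * d * u⁻¹)) * u⁻¹ = u * d * u⁻¹ * (u * (u * d * u⁻¹) * u⁻¹) by group,
        huu']
      exact hPc _ hudP _ (hP₁P hd)
    have hi'u : u * i' * u⁻¹ = i'⁻¹ := by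
      rw [hi', show u * (d * (u * d * u⁻¹)⁻¹) * u⁻¹ =
        u * d * u⁻¹ * (u * (u * d * u⁻¹) * u⁻¹)⁻¹ by group, huu', mul_inv_rev, inv_inv]
    have hno : ∀ j z, z ∈ L j → z ≠ 1 → (u * z * u⁻¹ = z ∨ u * z * u⁻¹ = z⁻¹) → False := by
      intro j z hz hz1 huz
      rw [hmemL] at hz
      set g := (y ^ j)⁻¹ * u * y ^ j with hg
      have hzd : (y ^ j)⁻¹ * z * y ^ j ≠ 1 := fun h => hz1 (by
        have h1 := congrArg (fun a => y ^ j * a * (y ^ j)⁻¹) h
        simpa [mul_assoc] using h1)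
      have hgM : g ∈ M := by
        by_contra hgM
        refine hzd (hkey g hgM _ hz ?_)
        have h1 : g * ((y ^ j)⁻¹ * z * y ^ j) * g⁻¹ = (y ^ j)⁻¹ * (u * z * u⁻¹) * y ^ j := by
          rw [hg]; group
        rw [h1]
        rcases huz with h | h <;> rw [h]
        · exact hz
        · have := inv_mem hz
          simpa [mul_assoc] using this
      have hg2 : g * g = 1 := by
        rw [hg, show (y ^ j)⁻¹ * u * y ^ j * ((y ^ j)⁻¹ * u * y ^ j) = (y ^ j)⁻¹ * (u * u) * y ^ j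
          by group, huu]
        group
      have hgi : g⁻¹ = g := inv_eq_of_mul_eq_one_right hg2
      have hgE : g ∈ E := hE.mem g hgM hg2
      have hcomm : ∀ x ∈ P, g * x * g⁻¹ = x := by
        intro x hx
        have hgx : g * x * g⁻¹ ∈ P := by
          have h1 := hyP' j _ (huP _ (hyP j x hx))
          convert h1 using 1
          rw [hg]; group
        have h1 : g * x * g⁻¹ * x⁻¹ ∈ E := by
          rw [mul_assoc g x, mul_assoc g]
          refine mul_mem hgE (hE.le_normalizer (hPM hx) ?_)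
          exact inv_mem hgE
        have h2 : g * x * g⁻¹ * x⁻¹ = 1 := by
          have ho := orderOf_dvd_of_pow_eq_one
            (show (g * x * g⁻¹ * x⁻¹) ^ 2 = 1 by rw [pow_two]; exact hE.sq _ h1)
          have ho' := orderOf_dvd_of_pow_eq_one (hexp _ (mul_mem hgx (inv_mem hx)))
          exact orderOf_eq_one_iff.1 (Nat.eq_one_of_dvd_coprimes
            ((Nat.coprime_primes Nat.prime_two hp.out).2 c.ne_two.symm) ho ho')
        rwa [mul_inv_eq_one] at h2
      refine hd1 (hkey u huM d hd ?_)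
      have h1 := hcomm _ (hyP' j d (hP₁P hd))
      have h2 : u * d * u⁻¹ = d := by
        have h3 := congrArg (fun a => y ^ j * a * (y ^ j)⁻¹) h1
        simpa [hg, mul_assoc] using h3
      rw [h2]; exact hd
    have hzc : ∀ z ∈ zpowers c', u * z * u⁻¹ = z := by
      rintro _ ⟨l, rfl⟩
      show u * c' ^ l * u⁻¹ = c' ^ l
      rw [← conj_zpow, hc'u]
    have hi'c : i' ∉ zpowers c' := fun h => hi'1 (by
      have h1 := hzc _ h
      rw [hi'u] at h1
      have h2 : i' ^ 2 = 1 := by rw [pow_two]; nth_rewrite 1 [← h1]; exact inv_mul_cancel i'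
      exact orderOf_eq_one_iff.1 (Nat.eq_one_of_dvd_coprimes
        ((Nat.coprime_primes Nat.prime_two hp.out).2 c.ne_two.symm)
        (orderOf_dvd_of_pow_eq_one h2) (orderOf_dvd_of_pow_eq_one (hexp _ hi'P))))
    have hcardc : Nat.card (zpowers c') = p := by
      rw [Nat.card_zpowers]; exact orderOf_eq_prime (hexp _ hc'P) hc'1
    have hcL : ∀ j z, z ∈ L j → z ∈ zpowers c' → z = 1 := by
      intro j z hz hzc'
      by_contra hz1
      exact hno j z hz hz1 (Or.inl (hzc z hzc'))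
    have hcnt : ∀ H : Subgroup G, (Finset.univ.filter fun x : G => x ∈ H ∧ x ≠ 1).card =
        Nat.card H - 1 := by
      intro H
      rw [show (Finset.univ.filter fun x : G => x ∈ H ∧ x ≠ 1) =
          (Finset.univ.filter fun x : G => x ∈ H).erase 1 by ext x; simp [and_comm],
        Finset.card_erase_of_mem (by simp [one_mem]), ← Fintype.card_subtype,
        ← Nat.card_eq_fintype_card]
    set U := (Finset.range p).biUnion fun j => Finset.univ.filter fun x : G => x ∈ L j ∧ x ≠ 1 with hU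
    set C := Finset.univ.filter fun x : G => x ∈ zpowers c' ∧ x ≠ 1
    have hUc : U.card = p * (p - 1) := by
      rw [hU, Finset.card_biUnion]
      · simp_rw [hcnt, hcardL, hp1, Finset.sum_const, Finset.card_range, smul_eq_mul]
      · intro i hi j hj hij
        rw [Function.onFun, Finset.disjoint_left]
        intro x hxi hxj
        simp only [Finset.mem_filter, Finset.mem_univ, true_and] at hxi hxj
        exact hxi.2 (hdisj i (Finset.mem_range.1 hi) j (Finset.mem_range.1 hj) hij x hxi.1 hxj.1)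
    have hUC : Disjoint U C := by
      rw [Finset.disjoint_left]
      intro x hx hx'
      simp only [hU, Finset.mem_biUnion, Finset.mem_filter, Finset.mem_univ, true_and] at hx
      obtain ⟨j, -, hxj, hx1⟩ := hx
      exact hx1 (hcL j x hxj (Finset.mem_filter.1 hx').2.1)
    have hiUC : i' ∉ U ∪ C := by
      rw [Finset.mem_union]
      rintro (h | h)
      · simp only [hU, Finset.mem_biUnion, Finset.mem_filter, Finset.mem_univ, true_and] at h
        obtain ⟨j, -, hij, -⟩ := h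
        exact hno j i' hij hi'1 (Or.inr hi'u)
      · exact hi'c (Finset.mem_filter.1 h).2.1
    have hsub : insert i' (U ∪ C) ⊆ Finset.univ.filter fun x : G => x ∈ P ∧ x ≠ 1 := by
      intro x hx
      refine Finset.mem_filter.2 ⟨Finset.mem_univ _, ?_⟩
      rcases Finset.mem_insert.1 hx with rfl | hx
      · exact ⟨hi'P, hi'1⟩
      rcases Finset.mem_union.1 hx with h | h
      · simp only [hU, Finset.mem_biUnion, Finset.mem_filter, Finset.mem_univ, true_and] at h
        obtain ⟨j, -, hxj, hx1⟩ := h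
        exact ⟨hLP j hxj, hx1⟩
      · exact ⟨(zpowers_le.2 hc'P) (Finset.mem_filter.1 h).2.1, (Finset.mem_filter.1 h).2.2⟩
    have h1 := Finset.card_le_card hsub
    rw [Finset.card_insert_of_notMem hiUC, Finset.card_union_of_disjoint hUC, hUc, hcnt, hcnt,
      hcardc, hcP] at h1
    have h5 := c.five
    obtain ⟨q, rfl⟩ : ∃ q, p = q + 1 := ⟨p - 1, by omega⟩
    simp only [Nat.add_sub_cancel] at h1
    have : (q + 1) ^ 2 = (q + 1) * q + q + 1 := by ring
    omega
  -- consequences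
  have hcardP' : Nat.card P = p := by rw [hcardP, hP₁bot, card_bot, mul_one]
  obtain ⟨P₀, hP₀⟩ := (hPp.comap_of_injective M.subtype M.subtype_injective).exists_le_sylow
  have hPeq : (P₀ : Subgroup M).map M.subtype = P :=
    hmax _ (fun x hx => ⟨⟨x, hPM hx⟩, hP₀ hx, rfl⟩) (map_subtype_le _) (P₀.isPGroup'.map _)
  have hfree : ∀ z ∈ M, z ^ p = 1 → ∀ e ∈ E, orderOf e = 2 → z * e = e * z → z = 1 := by
    intro z hz hzp e he he2 hze
    have hzP : IsPGroup p (zpowers (⟨z, hz⟩ : M)) := by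
      obtain ⟨i, -, hi⟩ := (Nat.dvd_prime_pow hp.out).1
        (show orderOf (⟨z, hz⟩ : M) ∣ p ^ 1 by
          rw [Subgroup.orderOf_mk, pow_one]; exact orderOf_dvd_of_pow_eq_one hzp)
      exact IsPGroup.of_card (n := i) (by rw [Nat.card_zpowers, hi])
    obtain ⟨R, hR⟩ := hzP.exists_le_sylow
    obtain ⟨m, hm⟩ := MulAction.exists_smul_eq M R P₀
    have h1 : (MulAut.conj m) • (⟨z, hz⟩ : M) ∈ (P₀ : Subgroup M) := by
      rw [← hm, Sylow.coe_subgroup_smul]
      exact smul_mem_pointwise_smul _ _ _ (hR (mem_zpowers _))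
    have hw : (m : G) * z * (m : G)⁻¹ ∈ P := hPeq ▸ mem_map_of_mem M.subtype h1
    have hem := hE.le_normalizer m.2 he
    obtain ⟨d, hd, hde⟩ := htr ((m : G) * e * (m : G)⁻¹) (hE.le hem)
      (by rw [StrongEmb.orderOf_conj', he2]) e₀ (hE.le he₀) he₀2
    have h2 : (⟨d * ((m : G) * z * (m : G)⁻¹) * d⁻¹, mul_mem (mul_mem hd hw) (inv_mem hd)⟩ : P) ∈
        S₀ := by
      rw [hS₀, mem_subgroupOf, mem_centralizer_singleton_iff, ← hde]
      simp only [conj_mul, hze]
    rw [hS₀P₁, hP₁bot, mem_bot] at h2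
    rw [mul_inv_eq_one, mul_eq_left, mul_inv_eq_one, mul_eq_left] at h2
    exact h2
  refine ⟨hnp, fun s hs hdvd => ?_, fun t ht ht2 => ?_⟩
  · obtain ⟨z, hz⟩ := exists_prime_orderOf_dvd_card' (G := ↥(centralizer ({s} : Set G))) p hdvd
    obtain ⟨g, hg⟩ := isConj_iff.1 (StrongEmb.isConj_involutions hM hs he₀2)
    have hzs : (z : G) * s = s * z := mem_centralizer_singleton_iff.1 z.2
    have hze : g * (z : G) * g⁻¹ * e₀ = e₀ * (g * (z : G) * g⁻¹) := by
      rw [← hg, conj_mul, conj_mul, hzs]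
    have h1 := hfree _ (StrongEmb.mem_of_commute hM (hE.le he₀) he₀2 hze)
      (by rw [conj_pow, ← hz, ← Subgroup.orderOf_coe, pow_orderOf_eq_one, mul_one, mul_inv_cancel])
      e₀ he₀ he₀2 hze
    rw [mul_inv_eq_one, mul_eq_left] at h1
    rw [← Subgroup.orderOf_coe, h1, orderOf_one] at hz
    exact hp.out.one_lt.ne hz
  · have hCt : centralizer ({t} : Set G) ≤ M := fun x hx =>
      StrongEmb.mem_of_commute hM ht ht2 (mem_centralizer_singleton_iff.1 hx)
    have h1 := index_eq_card_involutions (H := M) le_rfl ht ht2 fun t' ht' ht2' => by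
      obtain ⟨d, hd, he⟩ := htr t ht ht2 t' ht' ht2'
      exact ⟨d, hPM hd, he⟩
    rw [← Subgroup.card_mul_index ((centralizer ({t} : Set G)).subgroupOf M), h1, ← hn, hnp,
      Nat.card_congr (subgroupOfEquivOfLe hCt).toEquiv, mul_comm]

end Cfsg.Agent.AbelianPComplement
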