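import Cfsg.Agent.Lib.AbelianPComplement.TwoSylow
import Cfsg.Agent.Lib.Coprime.Generation
import Cfsg.Agent.Lib.Involution.StrongEmb
import Cfsg.Agent.Lib.SmallSimple.Basic

/-!
# A minimal counterexample: a strongly embedded subgroup

With `B` a maximal `p'`-subgroup over a Sylow `2`-subgroup `T`, the `p`-subgroups normalised by `B`
have a greatest member `W` (signalizer generation over `Ω₁(T)`); the normaliser of `W`, or of `B` if
`W = 1`, is strongly embedded.
-/

set_option autoImplicit false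

namespace Cfsg.Agent.AbelianPComplement

open Subgroup
open Cfsg (pCore pPrimeCore IsStronglyEmbedded)
open Cfsg.Agent.Involution

universe u

variable {G : Type u} [Group G] [Finite G] {p : ℕ} [hp : Fact p.Prime]

omit hp in
/-- A hyperplane and one more element generate, so a subgroup of order at least `4` and exponent
`2` meets the hyperplane nontrivially. -/
theorem card_le_two_mul {F B : Subgroup G} {a : G} (hF : ∀ x ∈ F, x * x = 1) (hB : B ≤ F)
    (ha : a ∈ F) (h : B ⊔ zpowers a = F) : Nat.card F ≤ 2 * Nat.card B := by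
  have hc : ∀ x ∈ F, ∀ y ∈ F, x * y = y * x := fun x hx y hy => by
    have hxi : x⁻¹ = x := inv_eq_of_mul_eq_one_right (hF x hx)
    have hyi : y⁻¹ = y := inv_eq_of_mul_eq_one_right (hF y hy)
    have h1 : (x * y)⁻¹ = x * y := inv_eq_of_mul_eq_one_right (hF _ (mul_mem hx hy))
    rw [mul_inv_rev, hxi, hyi] at h1
    exact h1.symm
  have hn : zpowers a ≤ normalizer (B : Set G) := by
    refine (zpowers_le.2 ?_).trans (centralizer_le_normalizer (B : Set G))
    exact mem_centralizer_iff.2 fun b hb => hc b (hB hb) a ha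
  have h1 := Nat.le_of_dvd (Nat.mul_pos Nat.card_pos Nat.card_pos) (card_sup_dvd_mul hn)
  rw [sup_comm, h, Nat.card_zpowers] at h1
  refine h1.trans (Nat.mul_le_mul_right _ ?_)
  exact Nat.le_of_dvd two_pos (orderOf_dvd_of_pow_eq_one (by rw [pow_two]; exact hF a ha))

omit hp in
theorem orderOf_eq_two {x : G} (hx : x * x = 1) (h1 : x ≠ 1) : orderOf x = 2 := by
  haveI : Fact (Nat.Prime 2) := ⟨Nat.prime_two⟩
  exact orderOf_eq_prime (by rw [pow_two]; exact hx) h1

omit hp in
theorem inf_ne_bot_of_card_lt {B B' F : Subgroup G} (hB : B ≤ F) (hB' : B' ≤ F)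
    (h : Nat.card F < Nat.card B * Nat.card B') : B ⊓ B' ≠ ⊥ := by
  intro hd
  refine absurd ?_ (not_le.2 h)
  rw [← Nat.card_prod]
  refine Nat.card_le_card_of_injective
    (fun x : B × B' => (⟨x.1 * x.2, mul_mem (hB x.1.2) (hB' x.2.2)⟩ : F)) ?_
  rintro ⟨a, b⟩ ⟨a', b'⟩ hab
  have h1 : (a : G) * b = (a' : G) * b' := congrArg Subtype.val hab
  have h2 : (a' : G)⁻¹ * a = b' * (b : G)⁻¹ := by
    rw [inv_mul_eq_iff_eq_mul, ← mul_assoc, ← h1, mul_inv_cancel_right]
  have h3 : (a' : G)⁻¹ * a ∈ B ⊓ B' :=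
    mem_inf.2 ⟨B.mul_mem (B.inv_mem a'.2) a.2, h2 ▸ B'.mul_mem b'.2 (B'.inv_mem b.2)⟩
  rw [hd, mem_bot, inv_mul_eq_one] at h3
  exact Prod.ext (Subtype.ext h3.symm) (Subtype.ext (mul_left_cancel (a := (a : G)) (by rw [h1, h3])))

omit hp in
theorem commute_of_mem_centralizer {H : Subgroup G} {a : G} (ha : a ∈ H) :
    centralizer (H : Set G) ≤ centralizer ({a} : Set G) :=
  centralizer_le (Set.singleton_subset_iff.2 ha)

/-- A `p`-subgroup normalised by `B`. -/
def IsSig (p : ℕ) (B U : Subgroup G) : Prop := IsPGroup p U ∧ B ≤ normalizer (U : Set G)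

/-- The `p`-subgroups normalised by a maximal `p'`-subgroup over `T` have a greatest member. -/
theorem MinCtx.exists_greatest_sig (c : MinCtx p G) (T : Sylow 2 G) {B : Subgroup G}
    (hB : (Nat.card B).Coprime p)
    (hmax : ∀ H : Subgroup G, B ≤ H → (Nat.card H).Coprime p → H ≤ B) (hTB : (T : Subgroup G) ≤ B) :
    ∃ W, IsSig p B W ∧ ∀ U, IsSig p B U → U ≤ W := by
  have hop : ∀ X : Subgroup G, B ≤ X → IsSig p B (op p X) := fun X hX =>
    ⟨isPGroup_op X, hX.trans (le_normalizer_op X)⟩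
  have hle : ∀ X : Subgroup G, X ≠ ⊤ → B ≤ X → ∀ U, IsSig p B U → U ⊓ X ≤ op p X := by
    intro X hX hBX U hU
    haveI := c.solvable X hX
    refine (compl_of_maximal hB hmax hBX).le_op c.hyp inf_le_right (hU.1.to_le inf_le_left) ?_
    intro b hb
    rw [mem_normalizer_iff]
    intro r
    simp only [mem_inf]
    rw [← mem_normalizer_iff.1 (hU.2 hb) r, ← mem_normalizer_iff.1 (le_normalizer (hBX hb)) r]
  have hext : ∀ U, IsSig p B U → ∃ V, U ≤ V ∧ Maximal (IsSig p B) V := fun U hU => by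
    obtain ⟨V, h1, h2⟩ := Finite.exists_le_maximal (p := IsSig p B) hU
    exact ⟨V, h1, h2⟩
  -- maximal members with nontrivial intersection are equal
  have hmeet : ∀ (d : ℕ) (U V : Subgroup G), Maximal (IsSig p B) U → Maximal (IsSig p B) V →
      Nat.card G - Nat.card ↥(U ⊓ V) = d → U ⊓ V ≠ ⊥ → U = V := by
    intro d
    induction d using Nat.strong_induction_on with
    | _ d ih =>
      intro U V hU hV hd hne
      by_contra hUV
      set D := U ⊓ V with hD
      have hDU : D < U := lt_of_le_of_ne inf_le_left fun h => hUV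
        (hU.eq_of_le hV.prop (h ▸ inf_le_right))
      have hDV : D < V := lt_of_le_of_ne inf_le_right fun h => hUV
        (hV.eq_of_le hU.prop (h ▸ inf_le_left)).symm
      set X := normalizer (D : Set G) with hXdef
      have hX : X ≠ ⊤ :=
        c.normalizer_ne_top hne (c.ne_top_of_isPGroup (hU.prop.1.to_le inf_le_left))
      have hBX : B ≤ X := by
        intro b hb
        rw [hXdef, mem_normalizer_iff]
        intro r
        simp only [hD, mem_inf]
        rw [← mem_normalizer_iff.1 (hU.prop.2 hb) r, ← mem_normalizer_iff.1 (hV.prop.2 hb) r]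
      obtain ⟨Z, hXZ, hZ⟩ := hext _ (hop X hBX)
      have key : ∀ U₀, Maximal (IsSig p B) U₀ → D < U₀ → U₀ = Z := by
        intro U₀ hU₀ hlt
        have h1 : D < U₀ ⊓ Z :=
          (SmallSimple.lt_inf_normalizer hU₀.prop.1 hlt).trans_le
            (le_inf inf_le_left ((hle X hX hBX U₀ hU₀.prop).trans hXZ))
        have hc : Nat.card D < Nat.card ↥(U₀ ⊓ Z) := by
          by_contra hge
          exact h1.ne (eq_of_le_of_card_ge h1.le (not_lt.1 hge))
        refine ih _ ?_ U₀ Z hU₀ hZ rfl (ne_bot_of_gt h1)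
        have := card_le_card_group (U₀ ⊓ Z)
        omega
      exact hUV ((key U hU hDU).trans (key V hV hDV).symm)
  -- two nontrivial members meet suitable centralisers of involutions
  have hcomm : ∀ x ∈ T, ∀ b ∈ B, x * b = b * x := fun x hx b hb => c.hyp.comm hB (hTB hx) hb
  have hA : IsMulCommutative (c.omega T) :=
    ⟨⟨fun x y => Subtype.ext (c.sylow_comm T x.2.1 y.2.1)⟩⟩
  have hsmall : ∀ U, IsSig p B U → U ≠ ⊥ → ∃ B₁ ≤ c.omega T,
      4 ≤ Nat.card B₁ ∧ Nat.card (c.omega T) ≤ 2 * Nat.card B₁ ∧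
        U ⊓ centralizer (B₁ : Set G) ≠ ⊥ := by
    intro U hU hne
    by_contra hall
    refine hne (le_bot_iff.1 (Coprime.le_of_forall_cyclic_quotient (A := c.omega T)
      (fun x hx => hU.2 (hTB hx.1)) ?_ fun B₁ hB₁ hcyc => ?_))
    · obtain ⟨j, hj⟩ := IsPGroup.iff_card.1 hU.1
      rw [hj]
      exact ((c.coprime_sylow T).coprime_dvd_left
        (card_dvd_of_le (show c.omega T ≤ (T : Subgroup G) from fun x hx => hx.1))).pow_right j
    · obtain ⟨a, ha, hsup⟩ := hcyc
      have h2 := card_le_two_mul (F := c.omega T) (fun x hx => hx.2) hB₁ ha hsup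
      have h8 := c.card_omega T
      by_contra hne'
      exact hall ⟨B₁, hB₁, by omega, h2, fun h => hne' (h ▸ le_rfl)⟩
  have huniq : ∀ U V, Maximal (IsSig p B) U → Maximal (IsSig p B) V → U ≠ ⊥ → V ≠ ⊥ → U = V := by
    intro U V hU hV hU1 hV1
    obtain ⟨B₁, hB₁, h41, h21, hne1⟩ := hsmall U hU.prop hU1
    obtain ⟨B₂, hB₂, h42, h22, hne2⟩ := hsmall V hV.prop hV1
    have hmeet2 : B₁ ⊓ B₂ ≠ ⊥ := inf_ne_bot_of_card_lt hB₁ hB₂ (by
      have h3 := Nat.mul_le_mul h41 h22
      have := c.card_omega T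
      nlinarith)
    obtain ⟨a, ha, ha1⟩ := (Subgroup.ne_bot_iff_exists_ne_one).1 hmeet2 |> fun ⟨a, h⟩ =>
      (⟨a.1, a.2, fun h' => h (Subtype.ext h')⟩ : ∃ a, a ∈ B₁ ⊓ B₂ ∧ a ≠ 1)
    have haT : a ∈ T := (hB₁ (mem_inf.1 ha).1).1
    set X := centralizer ({a} : Set G)
    have hBX : B ≤ X := fun b hb => mem_centralizer_singleton_iff.2 (hcomm a haT b hb).symm
    obtain ⟨Z, hXZ, hZ⟩ := hext _ (hop X hBX)
    have key : ∀ U₀ B₀ : Subgroup G, Maximal (IsSig p B) U₀ → a ∈ B₀ →
        U₀ ⊓ centralizer (B₀ : Set G) ≠ ⊥ → U₀ = Z := by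
      intro U₀ B₀ hU₀ haB hne0
      refine hmeet _ U₀ Z hU₀ hZ rfl fun h => hne0 (le_bot_iff.1 (h ▸ le_inf inf_le_left ?_))
      exact ((inf_le_inf_left U₀ (commute_of_mem_centralizer haB)).trans
        (hle X (c.centralizer_ne_top ha1) hBX U₀ hU₀.prop)).trans hXZ
    exact (key U B₁ hU (mem_inf.1 ha).1 hne1).trans (key V B₂ hV (mem_inf.1 ha).2 hne2).symm
  obtain ⟨W, -, hW⟩ := hext ⊥ ⟨IsPGroup.of_bot, fun b _ => by
    rw [normalizer_eq_top]; exact mem_top b⟩
  refine ⟨W, hW.prop, fun U hU => ?_⟩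
  obtain ⟨V, hUV, hV⟩ := hext U hU
  by_cases hVb : V = ⊥
  · exact hUV.trans (hVb ▸ bot_le)
  · by_cases hWb : W = ⊥
    · exact absurd (hW.eq_of_le hV.prop (hWb ▸ bot_le)) (fun h => hVb (h.symm.trans hWb))
    · exact hUV.trans (huniq V W hV hW hVb hWb).le

/-- A minimal counterexample has a strongly embedded subgroup containing `N(T)`. -/
theorem MinCtx.exists_stronglyEmbedded (c : MinCtx p G) :
    ∃ (M : Subgroup G) (T : Sylow 2 G), IsStronglyEmbedded M ∧
      normalizer ((T : Subgroup G) : Set G) ≤ M := by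
  haveI : Fact (Nat.Prime 2) := ⟨Nat.prime_two⟩
  obtain ⟨T⟩ : Nonempty (Sylow 2 G) := inferInstance
  obtain ⟨B, hTB, hBmax⟩ := Finite.exists_le_maximal
    (p := fun H : Subgroup G => (Nat.card H).Coprime p) (c.coprime_sylow T)
  have hB := hBmax.prop
  have hmax : ∀ H : Subgroup G, B ≤ H → (Nat.card H).Coprime p → H ≤ B :=
    fun H h1 h2 => hBmax.le_of_ge h2 h1
  obtain ⟨W, hW, hgr⟩ := c.exists_greatest_sig T hB hmax hTB
  classical
  set M := normalizer (((if W = ⊥ then B else W) : Subgroup G) : Set G) with hMdef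
  have hMtop : M ≠ ⊤ := by
    rw [hMdef]
    split
    · exact c.normalizer_ne_top (fun h => c.sylow_ne_bot T (le_bot_iff.1 (h ▸ hTB)))
        (c.ne_top_of_comm fun x hx y hy => c.hyp.comm hB hx hy)
    · next h => exact c.normalizer_ne_top h (c.ne_top_of_isPGroup hW.1)
  have hleM : ∀ X : Subgroup G, X ≠ ⊤ → B ≤ X → X ≤ M := by
    intro X hX hBX x hx
    haveI := c.solvable X hX
    obtain ⟨u, hu, n, hn, -, rfl⟩ := (compl_of_maximal hB hmax hBX).exists_mul c.hyp hx
    have huW : u ∈ W := hgr _ ⟨isPGroup_op X, hBX.trans (le_normalizer_op X)⟩ hu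
    rw [hMdef]
    split
    · next h =>
      rw [h, mem_bot] at huW
      rw [huW, one_mul]; exact hn
    · refine mul_mem (le_normalizer huW) ?_
      rw [mem_normalizer_iff_map_conj_eq]
      refine eq_of_le_of_card_ge (hgr _ ⟨hW.1.map _, fun b hb => ?_⟩) ?_
      · rw [mem_normalizer_iff_map_conj_eq]
        have hb' : n⁻¹ * b * n ∈ B := by
          simpa using (mem_normalizer_iff.1 (inv_mem hn) b).1 hb
        have h1 := mem_normalizer_iff_map_conj_eq.1 (hW.2 hb')
        show (W.map (MulAut.conj n).toMonoidHom).map (MulAut.conj b).toMonoidHom = _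
        conv_rhs => rw [← h1]
        rw [map_map, map_map]
        congr 1
        ext y
        simp [mul_assoc]
      · rw [card_map_of_injective (MulAut.conj n).injective]
  have hBM : B ≤ M := hleM B (c.ne_top_of_comm fun x hx y hy => c.hyp.comm hB hx hy) le_rfl
  have hTM : (T : Subgroup G) ≤ M := hTB.trans hBM
  have hNT : normalizer ((T : Subgroup G) : Set G) ≤ M :=
    hleM _ (c.normalizer_ne_top (c.sylow_ne_bot T) (c.ne_top_of_comm fun x hx y hy =>
      c.sylow_comm T hx hy)) fun b hb => centralizer_le_normalizer ((T : Subgroup G) : Set G)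
        (mem_centralizer_iff.2 fun x hx => c.hyp.comm hB (hTB hx) hb)
  refine ⟨M, T, ⟨hMtop, ?_, ?_⟩, hNT⟩
  · obtain ⟨u, huT, hu⟩ := c.exists_involution T
    refine even_iff_two_dvd.2 ?_
    have h1 := orderOf_dvd_natCard (⟨u, hTM huT⟩ : M)
    rwa [Subgroup.orderOf_mk, hu] at h1
  -- every involution of `M` is conjugate in `M` to one of `T`
  intro g hg
  have hconj : ∀ s ∈ M, orderOf s = 2 → ∃ m ∈ M, m * s * m⁻¹ ∈ T := by
    intro s hs hs2
    let S : Sylow 2 M := T.subtype hTM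
    have hz : IsPGroup 2 (zpowers (⟨s, hs⟩ : M)) := IsPGroup.of_card (n := 1) (by
      rw [Nat.card_zpowers, Subgroup.orderOf_mk, hs2, pow_one])
    obtain ⟨R, hR⟩ := hz.exists_le_sylow
    obtain ⟨m, hm⟩ := MulAction.exists_smul_eq M R S
    refine ⟨m, m.2, ?_⟩
    have h1 : (MulAut.conj m) • (⟨s, hs⟩ : M) ∈ (S : Subgroup M) := by
      rw [← hm, Sylow.coe_subgroup_smul]
      exact smul_mem_pointwise_smul _ _ _ (hR (mem_zpowers _))
    exact h1
  by_contra hodd
  rw [Nat.not_odd_iff_even] at hodd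
  obtain ⟨⟨s, hsM, w, hwM, hws⟩, hs2'⟩ := exists_prime_orderOf_dvd_card'
    (G := ↥(M ⊓ M.map (MulAut.conj g).toMonoidHom)) 2 hodd.two_dvd
  have hs2 : orderOf s = 2 := (Subgroup.orderOf_coe _).trans hs2'
  have hws' : g * w * g⁻¹ = s := hws
  have hw2 : orderOf w = 2 := by rw [← hws', StrongEmb.orderOf_conj'] at hs2; exact hs2
  obtain ⟨m, hm, hmT⟩ := hconj w hwM hw2
  obtain ⟨m', hm', hm'T⟩ := hconj s hsM hs2
  have hC : ∀ y ∈ T, y ∈ centralizer ((T : Subgroup G) : Set G) := fun y hy =>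
    mem_centralizer_iff.2 fun x hx => c.sylow_comm T hx hy
  obtain ⟨n, hn, hne⟩ := Transfer.exists_sylow_normalizer_conj_eq T {m * w * m⁻¹}
    (m' * g * m⁻¹) (Set.singleton_subset_iff.2 (hC _ hmT)) (fun a ha => by
      rw [Set.mem_singleton_iff] at ha
      subst ha
      refine hC _ ?_
      convert hm'T using 1
      rw [← hws']; group)
  have he := hne _ rfl
  set k := n⁻¹ * (m' * g * m⁻¹) with hk
  have hkC : k * (m * w * m⁻¹) = m * w * m⁻¹ * k := by
    have h2 : k * (m * w * m⁻¹) * k⁻¹ = m * w * m⁻¹ := by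
      calc k * (m * w * m⁻¹) * k⁻¹ = n⁻¹ * ((m' * g * m⁻¹) * (m * w * m⁻¹) * (m' * g * m⁻¹)⁻¹) * n := by
            rw [hk]; group
        _ = n⁻¹ * (n * (m * w * m⁻¹) * n⁻¹) * n := by rw [he]
        _ = m * w * m⁻¹ := by group
    conv_rhs => rw [← h2]
    rw [inv_mul_cancel_right]
  have ht2 : orderOf (m * w * m⁻¹) = 2 := by rw [StrongEmb.orderOf_conj', hw2]
  have hkM : k ∈ M := hleM _ (c.centralizer_ne_top (fun h => by
    rw [h, orderOf_one] at ht2; omega)) (fun b hb => mem_centralizer_singleton_iff.2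
      (c.hyp.comm hB hb (hTB hmT))) (mem_centralizer_singleton_iff.2 hkC)
  refine hg ?_
  have hge : g = m'⁻¹ * (n * k) * m := by rw [hk]; group
  rw [hge]
  exact mul_mem (mul_mem (inv_mem hm') (mul_mem (hNT hn) hkM)) hm

/-- A proper subgroup containing a four-group of `M` lies in `M`. -/
theorem MinCtx.le_of_four (c : MinCtx p G) {M : Subgroup G} (hM : IsStronglyEmbedded M)
    {X F : Subgroup G} (hX : X ≠ ⊤) (hFX : F ≤ X) (hFM : F ≤ M) (hF : ∀ x ∈ F, x * x = 1)
    (h4 : 4 ≤ Nat.card F) : X ≤ M := by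
  haveI := c.solvable X hX
  have hF2 : IsPGroup 2 F := fun x => ⟨1, Subtype.ext (by
    show (x : G) ^ (2 ^ 1) = 1
    rw [pow_one, pow_two]; exact hF _ x.2)⟩
  have hFp : (Nat.card F).Coprime p := coprime_of_isPGroup_two c.ne_two hF2
  obtain ⟨A, hFA, hA⟩ := exists_compl_ge hFX hFp
  have hcm : IsMulCommutative F :=
    ⟨⟨fun x y => Subtype.ext (c.hyp.comm hFp x.2 y.2)⟩⟩
  obtain ⟨f, hfF, hf1⟩ : ∃ f ∈ F, f ≠ 1 := by
    by_contra hno
    push Not at hno
    rw [(eq_bot_iff_forall F).2 hno, card_bot] at h4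
    omega
  have hf2 := orderOf_eq_two (hF f hfF) hf1
  have hAM : A ≤ M := fun a ha =>
    StrongEmb.mem_of_commute hM (hFM hfF) hf2 (c.hyp.comm hA.coprime ha (hFA hfF))
  have hop : op p X ≤ M := by
    refine Coprime.le_of_forall_cyclic_quotient (A := F)
      (hFX.trans (le_normalizer_op X)) ?_ fun B₁ hB₁ hcyc => ?_
    · obtain ⟨j, hj⟩ := IsPGroup.iff_card.1 (isPGroup_op (p := p) X)
      rw [hj]
      exact hFp.pow_right j
    · obtain ⟨a, ha, hsup⟩ := hcyc
      have h2 := card_le_two_mul hF hB₁ ha hsup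
      obtain ⟨b, hb, hb1⟩ : ∃ b ∈ B₁, b ≠ 1 := by
        by_contra hno
        push Not at hno
        rw [(eq_bot_iff_forall B₁).2 hno, card_bot] at h2
        omega
      intro y hy
      exact StrongEmb.mem_of_commute hM (hFM (hB₁ hb)) (orderOf_eq_two (hF b (hB₁ hb)) hb1)
        (mem_centralizer_iff.1 (mem_inf.1 hy).2 b hb).symm
  intro x hx
  obtain ⟨u, hu, n, hn, -, rfl⟩ := hA.exists_mul c.hyp hx
  exact mul_mem (hop hu) (StrongEmb.mem_of_conj_mem hM (hFM hfF) hf2
    (hAM ((mem_normalizer_iff.1 hn f).1 (hFA hfF))))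

end Cfsg.Agent.AbelianPComplement
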