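import Cfsg.Agent.Lib.AbelianPComplement.Local
import Cfsg.Agent.Lib.ZStar.Main
import Cfsg.Agent.Lib.Transfer.Fusion

/-!
# A minimal counterexample: the Sylow `2`-subgroups

`T` is abelian, its normaliser fixes no involution of `T`, so that `p` divides `|N(T)|` and
`Ω₁(T)` has order at least `8`.
-/

set_option autoImplicit false

namespace Cfsg.Agent.AbelianPComplement

open Subgroup
open Cfsg (pCore pPrimeCore)

universe u

/-- A minimal insoluble group with all `p'`-subgroups abelian of exponent dividing `p - 1`. -/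
structure MinCtx (p : ℕ) (G : Type u) [Group G] : Prop where
  hyp : Hyp p G
  five : 5 ≤ p
  even : Even (Nat.card G)
  simple : IsSimpleGroup G
  not_solvable : ¬ Group.IsSolvable G
  solvable : ∀ X : Subgroup G, X ≠ ⊤ → Group.IsSolvable X

variable {G : Type u} [Group G] [Finite G] {p : ℕ} [hp : Fact p.Prime]

theorem MinCtx.ne_two (c : MinCtx p G) : p ≠ 2 := by have := c.five; omega

theorem MinCtx.eq_bot_of_normal (c : MinCtx p G) {N : Subgroup G} (hN : N.Normal) (h : N ≠ ⊤) :
    N = ⊥ := by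
  haveI := c.simple
  exact (hN.eq_bot_or_eq_top).resolve_right h

theorem MinCtx.normalizer_ne_top (c : MinCtx p G) {D : Subgroup G} (h : D ≠ ⊥) (h' : D ≠ ⊤) :
    normalizer (D : Set G) ≠ ⊤ := fun ht => h (c.eq_bot_of_normal (normalizer_eq_top_iff.1 ht) h')

theorem MinCtx.ne_top_of_comm (c : MinCtx p G) {A : Subgroup G}
    (hA : ∀ x ∈ A, ∀ y ∈ A, x * y = y * x) : A ≠ ⊤ := fun h =>
  c.not_solvable (Group.isSolvable_of_comm fun x y => hA x (h ▸ mem_top x) y (h ▸ mem_top y))

theorem MinCtx.ne_top_of_isPGroup (c : MinCtx p G) {D : Subgroup G} (hD : IsPGroup p D) : D ≠ ⊤ := by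
  rintro rfl
  have hG : IsPGroup p G := hD.of_equiv Subgroup.topEquiv
  haveI := hG.isNilpotent
  exact c.not_solvable inferInstance

theorem MinCtx.center_eq_bot (c : MinCtx p G) : center G = ⊥ :=
  c.eq_bot_of_normal inferInstance (c.ne_top_of_comm fun _ hx y _ => (mem_center_iff.1 hx y).symm)

theorem MinCtx.centralizer_ne_top (c : MinCtx p G) {a : G} (ha : a ≠ 1) :
    centralizer ({a} : Set G) ≠ ⊤ := fun h => by
  have h1 : a ∈ center G := mem_center_iff.2 fun g =>
    mem_centralizer_singleton_iff.1 (h ▸ mem_top g)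
  rw [c.center_eq_bot, mem_bot] at h1
  exact ha h1

theorem MinCtx.coprime_sylow (c : MinCtx p G) (T : Sylow 2 G) :
    (Nat.card (T : Subgroup G)).Coprime p := coprime_of_isPGroup_two c.ne_two T.isPGroup'

theorem MinCtx.sylow_comm (c : MinCtx p G) (T : Sylow 2 G) {x y : G} (hx : x ∈ T) (hy : y ∈ T) :
    x * y = y * x := c.hyp.comm (c.coprime_sylow T) hx hy

theorem MinCtx.sylow_ne_bot (c : MinCtx p G) (T : Sylow 2 G) : (T : Subgroup G) ≠ ⊥ := by
  haveI : Fact (Nat.Prime 2) := ⟨Nat.prime_two⟩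
  exact T.ne_bot_of_dvd_card c.even.two_dvd

theorem MinCtx.exists_involution (c : MinCtx p G) (T : Sylow 2 G) : ∃ u ∈ T, orderOf u = 2 := by
  haveI : Fact (Nat.Prime 2) := ⟨Nat.prime_two⟩
  haveI := (nontrivial_iff_ne_bot _).2 (c.sylow_ne_bot T)
  obtain ⟨k, hk, hc⟩ := T.isPGroup'.nontrivial_iff_card.mp inferInstance
  obtain ⟨z, hz⟩ := exists_prime_orderOf_dvd_card' (G := (T : Subgroup G)) 2
    (hc ▸ dvd_pow_self 2 hk.ne')
  exact ⟨z, z.2, (Subgroup.orderOf_coe z).trans hz⟩

/-- The normaliser of `T` moves every involution of `T`. -/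
theorem MinCtx.exists_normalizer_ne (c : MinCtx p G) (T : Sylow 2 G) {u : G} (huT : u ∈ T)
    (hu : orderOf u = 2) :
    ∃ n ∈ normalizer ((T : Subgroup G) : Set G), n * u * n⁻¹ ≠ u := by
  haveI : Fact (Nat.Prime 2) := ⟨Nat.prime_two⟩
  by_contra hall
  push Not at hall
  have hC : ∀ y ∈ T, y ∈ centralizer ((T : Subgroup G) : Set G) := fun y hy =>
    mem_centralizer_iff.2 fun x hx => c.sylow_comm T hx hy
  have hiso := ZStar.isolated_of_sylow hu huT fun g hg => by
    obtain ⟨n, hn, he⟩ := Transfer.exists_sylow_normalizer_conj_eq T {u} g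
      (Set.singleton_subset_iff.2 (hC u huT)) (fun a ha => by
        rw [Set.mem_singleton_iff] at ha; subst ha; exact hC _ hg)
    rw [← he u rfl, hall n hn]
  have hz := ZStar.inZStar hiso
  have hodd : Cfsg.oddCore G = ⊥ := by
    refine c.eq_bot_of_normal inferInstance fun h => ?_
    have h1 := PCore.odd_card_oddCore (G := G)
    rw [h, card_top] at h1
    exact Nat.not_even_iff_odd.2 h1 c.even
  have h1 := ZStar.mem_center_of_oddCore_eq_bot hz hodd
  rw [c.center_eq_bot, mem_bot] at h1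
  rw [h1, orderOf_one] at hu
  omega

/-- A `p'`-element normalising `T` centralises it. -/
theorem MinCtx.commute_of_mem_normalizer (c : MinCtx p G) (T : Sylow 2 G) {y u : G}
    (hy : y ∈ normalizer ((T : Subgroup G) : Set G)) (hyp' : (orderOf y).Coprime p) (hu : u ∈ T) :
    y * u = u * y :=
  c.hyp.comm (coprime_card_sup (zpowers_le.2 hy) (coprime_card_zpowers hyp') (c.coprime_sylow T))
    (mem_sup_left (mem_zpowers y)) (mem_sup_right hu)

/-- An `N(T)`-class of involutions of `T` has size a nontrivial power of `p`. -/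
theorem MinCtx.index_class (c : MinCtx p G) (T : Sylow 2 G) {u : G} (huT : u ∈ T)
    (hu : orderOf u = 2) :
    ∃ i, i ≠ 0 ∧ ((centralizer ({u} : Set G)).subgroupOf
      (normalizer ((T : Subgroup G) : Set G))).index = p ^ i := by
  set N := normalizer ((T : Subgroup G) : Set G)
  set S := (centralizer ({u} : Set G)).subgroupOf N
  obtain ⟨i, m, hm, him⟩ := Nat.exists_eq_pow_mul_and_not_dvd
    (n := S.index) index_ne_zero_of_finite p hp.out.ne_one
  suffices hm1 : m = 1 by
    refine ⟨i, fun hi => ?_, by rw [him, hm1, mul_one]⟩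
    have htop : S = ⊤ := index_eq_one.1 (by rw [him, hi, hm1, pow_zero, mul_one])
    obtain ⟨n, hn, hne⟩ := c.exists_normalizer_ne T huT hu
    have h1 : (⟨n, hn⟩ : N) ∈ S := htop ▸ mem_top _
    rw [mem_subgroupOf, mem_centralizer_singleton_iff] at h1
    exact hne (by rw [h1, mul_inv_cancel_right])
  by_contra hne1
  obtain ⟨q, hq, hqm⟩ := Nat.exists_prime_and_dvd hne1
  haveI := Fact.mk hq
  have hqp : q ≠ p := fun h => hm (h ▸ hqm)
  let Q : Sylow q N := default
  refine Q.not_dvd_index (hqm.trans (Dvd.intro_left _ him.symm) |>.trans (index_dvd_of_le ?_))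
  intro y hy
  rw [mem_subgroupOf, mem_centralizer_singleton_iff]
  refine c.commute_of_mem_normalizer T y.2 ?_ huT
  obtain ⟨k, hk⟩ := Q.isPGroup' ⟨y, hy⟩
  have hk' : (y : G) ^ q ^ k = 1 := congrArg (fun z : (Q : Subgroup N) => ((z : N) : G)) hk
  exact Nat.Coprime.coprime_dvd_left (orderOf_dvd_of_pow_eq_one hk')
    (((Nat.coprime_primes hq hp.out).2 hqp).pow_left k)

theorem MinCtx.dvd_card_normalizer (c : MinCtx p G) (T : Sylow 2 G) :
    p ∣ Nat.card ↥(normalizer ((T : Subgroup G) : Set G)) := by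
  obtain ⟨u, huT, hu⟩ := c.exists_involution T
  obtain ⟨i, hi, he⟩ := c.index_class T huT hu
  exact (dvd_pow_self p hi).trans (he ▸ index_dvd_card _)

/-- `Ω₁(T)`. -/
def MinCtx.omega (c : MinCtx p G) (T : Sylow 2 G) : Subgroup G where
  carrier := {x | x ∈ T ∧ x * x = 1}
  one_mem' := ⟨one_mem _, mul_one 1⟩
  mul_mem' {x y} hx hy := ⟨mul_mem hx.1 hy.1, by
    rw [mul_assoc, ← mul_assoc y x, c.sylow_comm T hy.1 hx.1, mul_assoc x y, ← mul_assoc, hx.2,
      one_mul, hy.2]⟩
  inv_mem' {x} hx := ⟨inv_mem hx.1, by rw [← mul_inv_rev, hx.2, inv_one]⟩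

theorem MinCtx.card_omega (c : MinCtx p G) (T : Sylow 2 G) : 8 ≤ Nat.card (c.omega T) := by
  classical
  haveI : Fact (Nat.Prime 2) := ⟨Nat.prime_two⟩
  obtain ⟨u, huT, hu⟩ := c.exists_involution T
  obtain ⟨i, hi, he⟩ := c.index_class T huT hu
  set N := normalizer ((T : Subgroup G) : Set G)
  set S := (centralizer ({u} : Set G)).subgroupOf N
  have hu2 : u * u = 1 := by rw [← pow_two, ← hu, pow_orderOf_eq_one]
  have hle : p + 1 ≤ Nat.card (c.omega T) := by
    have h1 : p ≤ Nat.card (N ⧸ S) := by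
      rw [← index_eq_card, he]
      exact Nat.le_self_pow hi p
    let f : Option (N ⧸ S) → c.omega T := fun q => q.elim 1 fun q =>
      ⟨(q.out : G) * u * (q.out : G)⁻¹, (mem_normalizer_iff.1 q.out.2 u).1 huT, by
        simp only [mul_assoc, inv_mul_cancel_left]
        rw [← mul_assoc u u, hu2, one_mul, mul_inv_cancel]⟩
    have hne : ∀ g : G, g * u * g⁻¹ ≠ 1 := fun g hg => by
      have h2 : u = 1 := by rw [mul_inv_eq_one] at hg; exact mul_left_cancel (hg.trans (mul_one g).symm)
      rw [h2, orderOf_one] at hu; omega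
    have hinj : Function.Injective f := by
      rintro (_ | a) (_ | b) hab
      · rfl
      · exact absurd (congrArg Subtype.val hab).symm (hne _)
      · exact absurd (congrArg Subtype.val hab) (hne _)
      · have hab' : (a.out : G) * u * (a.out : G)⁻¹ = (b.out : G) * u * (b.out : G)⁻¹ :=
          congrArg Subtype.val hab
        congr 1
        rw [← QuotientGroup.out_eq' a, ← QuotientGroup.out_eq' b, QuotientGroup.eq, mem_subgroupOf,
          mem_centralizer_singleton_iff, coe_mul, coe_inv]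
        calc (a.out : G)⁻¹ * b.out * u
            = (a.out : G)⁻¹ * ((b.out : G) * u * (b.out : G)⁻¹) * b.out := by group
          _ = u * ((a.out : G)⁻¹ * b.out) := by rw [← hab']; group
    have h2 := Nat.card_le_card_of_injective f hinj
    rw [Finite.card_option] at h2
    omega
  have hpg : IsPGroup 2 (c.omega T) := fun x => ⟨1, Subtype.ext (by
    show (x : G) ^ (2 ^ 1) = 1
    rw [pow_one, pow_two]; exact x.2.2)⟩
  obtain ⟨k, hk⟩ := IsPGroup.iff_card.1 hpg
  have := c.five
  rw [hk] at hle ⊢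
  rcases Nat.lt_or_ge k 3 with h3 | h3
  · interval_cases k <;> omega
  · calc 8 = 2 ^ 3 := rfl
      _ ≤ 2 ^ k := Nat.pow_le_pow_right (by norm_num) h3

end Cfsg.Agent.AbelianPComplement
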